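import Cfsg.Agent.E83.A

/-! Central series of `2`-groups acting on a vector space; the Frobenius group `2⁴:5`. -/

set_option autoImplicit false

namespace CF.E83

open Module Submodule LinearMap

variable {K V : Type*} [Field K] [AddCommGroup V] [Module K V] {X : Type*} [Group X]
  (r : X →* End K V)

/-- The common fixed space. -/
def Wl : List X → Submodule K V
  | [] => ⊤
  | a :: as => Wl as ⊓ fs (r a)

/-- `g` centralizes the factors of the series. -/
def Good : List X → X → Prop
  | [], _ => True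
  | b :: cs, g => Good cs g ∧ ∀ v ∈ Wl r cs, r g (r b v) = r b (r g v)

/-- A central series with factors of order two. -/
def Ser : List X → Prop
  | [] => True
  | a :: bs => Ser bs ∧ Good r bs a ∧ ∀ v ∈ Wl r bs, r a (r a v) = v

/-- The sum over a coset. -/
def Fs (φ : X → ℤ) : List X → X → ℤ
  | [], g => φ g
  | a :: as, g => Fs φ as g + Fs φ as (a * g)

/-- Elements fixing `Z` and acting trivially modulo `Y`. -/
def Sg (Z Y : Submodule K V) : Subgroup X where
  carrier := {g | (∀ v ∈ Z, r g v = v) ∧ ∀ v, r g v - v ∈ Y}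
  one_mem' := by simp
  mul_mem' := fun {a b} ha hb => ⟨fun v hv => by rw [map_mul, End.mul_apply, hb.1 v hv, ha.1 v hv],
    fun v => by simpa using add_mem (ha.2 (r b v)) (hb.2 v)⟩
  inv_mem' := fun {a} ha => by
    have : ∀ v, r a (r a⁻¹ v) = v := fun v => by rw [← End.mul_apply, ← map_mul]; simp
    refine ⟨fun v hv => ?_, fun v => by simpa [this] using neg_mem (ha.2 (r a⁻¹ v))⟩
    conv_lhs => rw [← ha.1 v hv, ← End.mul_apply, ← map_mul]
    simp

/-- The dimension of the fixed space. -/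
noncomputable def dm (x : X) : ℕ := finrank K (fs (r x))

/-- Multiplicity of `1` minus multiplicity of `-1`. -/
noncomputable def bt (x : X) : ℤ := bw ⊤ (r x)

variable {r}

theorem mem_Wl {as : List X} {v : V} : v ∈ Wl r as ↔ ∀ a ∈ as, r a v = v := by
  induction as with
  | nil => simp [Wl]
  | cons a as ih => simp [Wl, ih, mem_fs, and_comm]

theorem Good.mem {as : List X} {g : X} (h : Good r as g) {v : V} (hv : v ∈ Wl r as) :
    r g v ∈ Wl r as := by
  induction as with
  | nil => trivial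
  | cons a as ih => exact ⟨ih h.1 hv.1, mem_fs.2 (by rw [← h.2 v hv.1, mem_fs.1 hv.2])⟩

theorem Good.mul {as : List X} {g g' : X} (h : Good r as g) (h' : Good r as g') :
    Good r as (g * g') := by
  induction as with
  | nil => trivial
  | cons a as ih => exact ⟨ih h.1 h'.1, fun v hv => by
      simp only [map_mul, End.mul_apply]
      rw [h'.2 v hv, h.2 _ (h'.1.mem hv)]⟩

theorem good_one (as : List X) : Good r as 1 := by
  induction as with
  | nil => trivial
  | cons a as ih => exact ⟨ih, fun v _ => by simp⟩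

theorem Ser.sup (h2 : (2 : K) ≠ 0) {as : List X} (h : Ser r as) {Z Y : Submodule K V}
    (hY : ∀ a ∈ as, a ∈ Sg r Z Y) : Wl r as ⊔ Y = ⊤ := by
  induction as with
  | nil => exact top_sup_eq _
  | cons a as ih =>
    rw [eq_top_iff, ← ih h.1 fun b hb => hY b (by simp [hb])]
    refine sup_le (fun v hv => ?_) le_sup_right
    refine mem_sup.2 ⟨(2 : K)⁻¹ • (r a v + v), smul_mem _ _ ⟨add_mem (h.2.1.mem hv) hv,
      mem_fs.2 (by rw [map_add, h.2.2 v hv, add_comm])⟩, -(2 : K)⁻¹ • (r a v - v),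
      smul_mem _ _ ((hY a (by simp)).2 v), ?_⟩
    rw [neg_smul, ← sub_eq_add_neg, ← smul_sub, add_sub_sub_cancel, ← two_smul K, smul_smul,
      inv_mul_cancel₀ h2, one_smul]

variable [FiniteDimensional K V]

theorem fs_conj (A : End K V) (u : X) : finrank K (fs (r u * A * r u⁻¹)) = finrank K (fs A) := by
  have key : ∀ (A : End K V) (u : X), finrank K (fs (r u * A * r u⁻¹)) ≤ finrank K (fs A) :=
    fun A u => by
    refine le_trans (finrank_mono fun v hv => ?_) (finrank_map_le (r u) (fs A))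
    have h1 : ∀ v, r u⁻¹ (r u v) = v := fun v => by rw [← End.mul_apply, ← map_mul]; simp
    refine ⟨r u⁻¹ v, mem_fs.2 ?_, by rw [← End.mul_apply, ← map_mul]; simp⟩
    conv_rhs => rw [← mem_fs.1 hv]
    simp [h1]
  refine le_antisymm (key A u) ?_
  have := key (r u * A * r u⁻¹) u⁻¹
  rwa [inv_inv, ← mul_assoc, ← mul_assoc, ← map_mul, mul_assoc, mul_assoc, ← map_mul,
    inv_mul_cancel, map_one, one_mul, mul_one] at this

theorem bt_eq (x : X) : bt r x = finrank K (fs (r x)) - finrank K (fs (-r x)) := by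
  rw [bt, bw, fw, fw, top_inf_eq, top_inf_eq]

theorem bt_conj (x u : X) : bt r (u * x * u⁻¹) = bt r x := by
  rw [bt_eq, bt_eq, map_mul, map_mul, fs_conj, ← fs_conj (r := r) (-r x) u, mul_neg, neg_mul]

theorem Ser.fs_eq (h2 : (2 : K) ≠ 0) {as : List X} (h : Ser r as) {g : X} (hg : Good r as g) :
    Fs (bt r) as g = 2 ^ as.length * bw (Wl r as) (r g) := by
  induction as generalizing g with
  | nil => simp [Fs, bt, Wl]
  | cons a as ih =>
    rw [Fs, ih h.1 hg.1, ih h.1 (h.2.1.mul hg.1), ← mul_add, map_mul, bw_step h2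
      (fun v hv => h.2.1.mem hv) (fun v hv => hg.1.mem hv) h.2.2 hg.2, List.length_cons, Wl]
    ring

theorem Ser.sum (h2 : (2 : K) ≠ 0) {as : List X} (h : Ser r as) :
    Fs (bt r) as 1 = 2 ^ as.length * finrank K (Wl r as) := by
  rw [h.fs_eq h2 (good_one _), map_one, bw_one h2]

theorem dm_two (h2 : (2 : K) ≠ 0) {x : X} (h : x * x = 1) :
    2 * (dm r x : ℤ) = finrank K V + bt r x := by
  have := split h2 (P := ⊤) (a := r x) (fun _ _ => trivial) fun v _ => by
    rw [← End.mul_apply, ← map_mul, h, map_one, End.one_apply]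
  rw [fw, fw, top_inf_eq, top_inf_eq, finrank_top] at this
  rw [bt_eq, dm]
  omega

theorem scott' {x y : X} {Z : Submodule K V} (h : ∀ Z' Y, x ∈ Sg r Z' Y → y ∈ Sg r Z' Y →
    Z' ≤ Z ∧ finrank K V ≤ finrank K Z + finrank K Y) :
    dm r x + dm r y + dm r (x * y) ≤ finrank K V + 2 * finrank K Z := by
  have h1 := scott (r x) (r y)
  obtain ⟨h2, h3⟩ := h (fs (r x) ⊓ fs (r y)) (range (r x - 1) ⊔ range (r y - 1))
    ⟨fun v hv => mem_fs.1 hv.1, fun v => mem_sup_left ⟨v, rfl⟩⟩
    ⟨fun v hv => mem_fs.1 hv.2, fun v => mem_sup_right ⟨v, rfl⟩⟩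
  have := finrank_mono h2
  rw [dm, dm, dm, map_mul]
  omega

theorem scott_one {x y h : X} (H : ∀ S : Subgroup X, x ∈ S → y ∈ S → h ∈ S) :
    dm r x + dm r y + dm r (x * y) ≤ finrank K V + 2 * dm r h := scott' fun Z Y hx hy => by
  have h1 := H _ hx hy
  have h2 : range (r h - 1) ≤ Y := by rintro _ ⟨v, rfl⟩; exact h1.2 v
  have := finrank_mono h2
  have := rk_fs (r h)
  exact ⟨fun v hv => mem_fs.2 (h1.1 v hv), by omega⟩

theorem Ser.scott (h2 : (2 : K) ≠ 0) {as : List X} (h : Ser r as) {x y : X}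
    (H : ∀ S : Subgroup X, x ∈ S → y ∈ S → ∀ a ∈ as, a ∈ S) :
    dm r x + dm r y + dm r (x * y) ≤ finrank K V + 2 * finrank K (Wl r as) :=
  scott' fun Z Y hx hy => ⟨fun v hv => mem_Wl.2 fun a ha => (H _ hx hy a ha).1 v hv, by
    rw [← finrank_top, ← h.sup h2 (H _ hx hy)]
    exact finrank_add_le_finrank_add_finrank _ _⟩

theorem frob (h3 : (3 : K) = 0) {a b c d x : End K V} (aa : ∀ v, a (a v) = v)
    (bb : ∀ v, b (b v) = v) (cc : ∀ v, c (c v) = v) (dd : ∀ v, d (d v) = v)
    (ba : ∀ v, b (a v) = a (b v)) (ca : ∀ v, c (a v) = a (c v)) (da : ∀ v, d (a v) = a (d v))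
    (cb : ∀ v, c (b v) = b (c v)) (db : ∀ v, d (b v) = b (d v)) (dc : ∀ v, d (c v) = c (d v))
    (xa : ∀ v, x (a v) = b (x v)) (xb : ∀ v, x (b v) = c (x v)) (xc : ∀ v, x (c v) = d (x v))
    (xd : ∀ v, x (d v) = a (b (c (d (x v))))) (x5 : ∀ v, x (x (x (x (x v)))) = v)
    {W Y : Submodule K V} (hW : ∀ v, v ∈ W ↔ a v = v ∧ b v = v ∧ c v = v ∧ d v = v)
    (hY : ∀ v, v ∈ Y ↔ a v = v ∧ c (d v) = v) :
    finrank K (fs x) + finrank K W = finrank K ↥(fs x ⊓ W) + finrank K Y := by
  have e3 : ∀ v : V, v + v + v = 0 := fun v => by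
    rw [← one_smul K v, ← add_smul, ← add_smul, show (1 + 1 + 1 : K) = 0 by linear_combination h3,
      zero_smul]
  have hx : ∀ v ∈ W, x v ∈ W := fun v hv => by
    obtain ⟨h1, h2, h3, h4⟩ := (hW v).1 hv
    have k2 := (xa v).symm
    have k3 := (xb v).symm
    have k4 := (xc v).symm
    have k1 := (xd v).symm
    rw [h1] at k2
    rw [h2] at k3
    rw [h3] at k4
    rw [h4, k4, k3, k2] at k1
    exact (hW _).2 ⟨k1, k2, k3, k4⟩
  have hWY : Y ⊓ W = W := inf_eq_right.2 fun v hv => by
    obtain ⟨h1, -, h3, h4⟩ := (hW v).1 hv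
    exact (hY v).2 ⟨h1, by rw [h4, h3]⟩
  have h1 := le_of_map (A := fs x) (B := Y) (W := W) (1 + a + c * d + a * c * d)
    (fun v _ => (hY _).2 (by simp [aa, cc, dd, ca, da, dc]; constructor <;> abel)) fun v hv h => by
      have hv := mem_fs.1 hv
      have k1 := hx _ h
      have k2 := hx _ k1
      have k3 := hx _ k2
      have k4 := hx _ k3
      have k5 : (1 + a) ((1 + b) ((1 + c) ((1 + d) v))) ∈ W := (hW _).2 (by
        simp [aa, bb, cc, dd, ba, ca, da, cb, db, dc]
        refine ⟨?_, ?_, ?_, ?_⟩ <;> abel)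
      have k6 := sub_mem (add_mem (add_mem (add_mem (add_mem h k1) k2) k3) k4) k5
      simp [aa, bb, cc, dd, ba, ca, da, cb, db, dc, xa, xb, xc, xd, hv] at k6
      convert k6 using 1
      rw [← sub_eq_zero, ← neg_eq_zero, ← e3 v]
      abel
  have h2 := le_of_map (A := Y) (B := fs x) (W := W) (1 + x + x * x + x * x * x + x * x * x * x)
    (fun v _ => mem_fs.2 (by simp [x5]; abel)) fun v hv h => by
      obtain ⟨p0, q0⟩ := (hY v).1 hv
      set ε : End K V := 1 + a + c * d + a * c * d with hε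
      have k0 : ∀ u, a (ε u) = ε u ∧ c (d (ε u)) = ε u := fun u => by
        simp [hε, aa, cc, dd, ca, da, dc]; constructor <;> abel
      have k1 : ∀ u, b (ε u) = ε u → c (ε u) = ε u → ε u ∈ W := fun u h1 h2 =>
        (hW _).2 ⟨(k0 u).1, h1, h2, by rw [← h2, dc, (k0 u).2, h2]⟩
      have ka : ∀ u, a (ε u) = ε (a u) := fun u => by simp [hε, ca, da]
      have kb : ∀ u, b (ε u) = ε (b u) := fun u => by simp [hε, ba, cb, db]
      have kc : ∀ u, c (ε u) = ε (c u) := fun u => by simp [hε, ca, dc]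
      have kd : ∀ u, d (ε u) = ε (d u) := fun u => by simp [hε, da, dc]
      have p1 : b (x v) = x v := by rw [← xa, p0]
      have q1 : a (b (c (x v))) = x v := by simpa [xc, xd, da, db, dc, dd] using congrArg x q0
      have p2 : c (x (x v)) = x (x v) := by rw [← xb, p1]
      have q2 : b (c (d (x (x v)))) = x (x v) := by rw [← xc, ← xb, ← xa, q1]
      have p3 : d (x (x (x v))) = x (x (x v)) := by rw [← xc, p2]
      have q3 : a (b (x (x (x v)))) = x (x (x v)) := by
        simpa [xb, xc, xd, ca, cb, cc, da, db, dc, dd] using congrArg x q2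
      have p4 : a (b (c (d (x (x (x (x v))))))) = x (x (x (x v))) := by rw [← xd, p3]
      have q4 : b (c (x (x (x (x v))))) = x (x (x (x v))) := by rw [← xb, ← xa, q3]
      have m1 : ε (x v) ∈ W := by
        have s1 := congrArg ε p1
        have s2 := congrArg ε q1
        rw [← kb] at s1
        rw [← ka, ← kb, ← kc, ← cb, s1, ← ca, (k0 _).1] at s2
        exact k1 _ s1 s2
      have m2 : ε (x (x v)) ∈ W := by
        have s1 := congrArg ε p2
        have s2 := congrArg ε q2
        rw [← kc] at s1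
        rw [← kb, ← kc, ← kd, (k0 _).2] at s2
        exact k1 _ s2 s1
      have m3 : ε (x (x (x v))) ∈ W := by
        have s1 := congrArg ε p3
        have s2 := congrArg ε q3
        have s3 := (k0 (x (x (x v)))).2
        rw [← kd] at s1
        rw [← ka, ← kb, ← ba, (k0 _).1] at s2
        rw [s1] at s3
        exact k1 _ s2 s3
      have m4 : ε (x (x (x (x v)))) ∈ W := by
        have s1 := congrArg ε p4
        have s2 := congrArg ε q4
        rw [← ka, ← kb, ← kc, ← kd, (k0 _).2, ← ba, (k0 _).1] at s1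
        rw [← kb, ← kc, ← cb, s1] at s2
        exact k1 _ s1 s2
      obtain ⟨n1, -, n3, n4⟩ := (hW _).1 h
      have m0 : ε _ ∈ W := show _ + a _ + c (d _) + a (c (d _)) ∈ W by
        rw [n4, n3, n1]; exact add_mem (add_mem (add_mem h h) h) h
      have m5 : ε v = v := by
        rw [← sub_eq_zero, ← e3 v, show ε v = v + a v + c (d v) + a (c (d v)) from rfl, q0, p0]
        abel
      simpa [m5] using sub_mem (sub_mem (sub_mem (sub_mem m0 m4) m3) m2) m1
  rw [hWY] at h1
  rw [hWY] at h2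
  omega

end CF.E83
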