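import Mathlib

/-! Dimensions of fixed spaces: `2`-groups, Scott's lemma, a Frobenius group. -/

set_option autoImplicit false

namespace CF.E83

open Module Submodule LinearMap

variable {K V : Type*} [Field K] [AddCommGroup V] [Module K V]

/-- The fixed space. -/
def fs (A : End K V) : Submodule K V := ker (A - 1)

theorem mem_fs {A : End K V} {v : V} : v ∈ fs A ↔ A v = v := by simp [fs, sub_eq_zero]

theorem mem_fs_neg {A : End K V} {v : V} : v ∈ fs (-A) ↔ A v = -v := by
  rw [mem_fs, LinearMap.neg_apply, neg_eq_iff_eq_neg]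

/-- The dimension of the fixed space on `U`. -/
noncomputable def fw (U : Submodule K V) (A : End K V) : ℕ := finrank K ↥(U ⊓ fs A)

/-- Multiplicity of `1` minus multiplicity of `-1` on `U`. -/
noncomputable def bw (U : Submodule K V) (A : End K V) : ℤ := fw U A - fw U (-A)

theorem fw_congr {U : Submodule K V} {A B : End K V} (h : ∀ v ∈ U, A v = B v) : fw U A = fw U B := by
  have : U ⊓ fs A = U ⊓ fs B := by
    ext v
    simp only [mem_inf, mem_fs]
    exact and_congr_right fun hv => by rw [h v hv]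
  rw [fw, this, fw]

theorem bw_one (h2 : (2 : K) ≠ 0) (U : Submodule K V) : bw U 1 = finrank K U := by
  have h1 : U ⊓ fs (1 : End K V) = U := inf_eq_left.2 fun v _ => mem_fs.2 rfl
  have h3 : U ⊓ fs (-1 : End K V) = ⊥ := eq_bot_iff.2 fun v hv => by
    have := mem_fs_neg.1 hv.2
    rw [End.one_apply, eq_neg_iff_add_eq_zero, ← two_smul K] at this
    exact (smul_eq_zero.1 this).resolve_left h2
  rw [bw, fw, fw, h1, h3]; simp

variable [FiniteDimensional K V]

theorem rk_map {V' : Type*} [AddCommGroup V'] [Module K V'] (f : V →ₗ[K] V') (U : Submodule K V) :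
    finrank K (U.map f) + finrank K ↥(U ⊓ ker f) = finrank K U := by
  rw [← finrank_range_add_finrank_ker (f.domRestrict U), range_domRestrict, ker_domRestrict,
    ← finrank_map_subtype_eq U (comap _ _), map_comap_subtype]

theorem rk_fs (A : End K V) : finrank K (range (A - 1)) + finrank K (fs A) = finrank K V :=
  finrank_range_add_finrank_ker _

theorem split (h2 : (2 : K) ≠ 0) {P : Submodule K V} {a : End K V} (h : ∀ v ∈ P, a v ∈ P)
    (h' : ∀ v ∈ P, a (a v) = v) : finrank K P = fw P a + fw P (-a) := by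
  have : P.map (a - 1) = P ⊓ fs (-a) := le_antisymm (by
    rintro _ ⟨v, hv, rfl⟩
    exact ⟨sub_mem (h v hv) hv, mem_fs_neg.2 (by simp [h' v hv])⟩) fun v hv =>
      ⟨-(2 : K)⁻¹ • v, smul_mem _ _ hv.1, by
        rw [map_smul, LinearMap.sub_apply, mem_fs_neg.1 hv.2, End.one_apply, ← neg_add', ← two_smul K,
          neg_smul_neg, smul_smul, inv_mul_cancel₀ h2, one_smul]⟩
  rw [← rk_map (a - 1) P, this, add_comm]; rfl

theorem fw_split (h2 : (2 : K) ≠ 0) {U : Submodule K V} {a g : End K V} (ha : ∀ v ∈ U, a v ∈ U)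
    (h : ∀ v ∈ U, a (a v) = v) (hc : ∀ v ∈ U, g (a v) = a (g v)) :
    fw U g = fw (U ⊓ fs a) g + fw (U ⊓ fs (-a)) g := by
  rw [fw, split h2 (P := U ⊓ fs g) (a := a) (fun v hv => ⟨ha v hv.1, mem_fs.2 (by rw [hc v hv.1, mem_fs.1 hv.2])⟩)
    fun v hv => h v hv.1, fw, fw, fw, fw, inf_right_comm, inf_right_comm U (fs g)]

theorem bw_step (h2 : (2 : K) ≠ 0) {U : Submodule K V} {a g : End K V} (ha : ∀ v ∈ U, a v ∈ U)
    (hg : ∀ v ∈ U, g v ∈ U) (h : ∀ v ∈ U, a (a v) = v) (hc : ∀ v ∈ U, g (a v) = a (g v)) :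
    bw U g + bw U (a * g) = 2 * bw (U ⊓ fs a) g := by
  have h1 : ∀ v ∈ U ⊓ fs a, (a * g) v = g v := fun v hv => by
    rw [End.mul_apply, ← hc v hv.1, mem_fs.1 hv.2]
  have h3 : ∀ v ∈ U ⊓ fs (-a), (a * g) v = (-g) v := fun v hv => by
    rw [End.mul_apply, ← hc v hv.1, mem_fs_neg.1 hv.2, map_neg, LinearMap.neg_apply]
  have h4 := fw_split h2 ha h hc
  have h5 := fw_split h2 (g := -g) ha h fun v hv => by simp [hc v hv]
  have h6 := fw_split h2 (g := a * g) ha h fun v hv => by simp [hc v hv]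
  have h7 := fw_split h2 (g := -(a * g)) ha h fun v hv => by simp [hc v hv]
  rw [fw_congr h1, fw_congr h3] at h6
  rw [fw_congr (U := U ⊓ fs a) (A := -(a * g)) (B := -g) fun v hv => congrArg Neg.neg (h1 v hv),
    fw_congr (U := U ⊓ fs (-a)) (A := -(a * g)) (B := g) fun v hv =>
      (congrArg Neg.neg (h3 v hv)).trans (neg_neg _)] at h7
  simp only [bw]
  omega

theorem scott (A B : End K V) : finrank K (fs A) + finrank K (fs B) + finrank K (fs (A * B)) +
    finrank K ↥(range (A - 1) ⊔ range (B - 1)) ≤ 2 * finrank K V + finrank K ↥(fs A ⊓ fs B) := by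
  let δ : range (A - 1) × range (B - 1) × range (A * B - 1) →ₗ[K] V :=
    (Submodule.subtype _).coprod ((A ∘ₗ Submodule.subtype _).coprod (-Submodule.subtype _))
  let β : V →ₗ[K] range (A - 1) × range (B - 1) × range (A * B - 1) :=
    (rangeRestrict _).prod ((rangeRestrict _).prod (rangeRestrict _))
  have h1 : range β ≤ ker δ := by
    rintro _ ⟨v, rfl⟩
    simp [β, δ]
  have h2 : ker β ≤ fs A ⊓ fs B := fun v (hv : β v = 0) =>
    ⟨show (β v).1.1 = 0 by rw [hv]; rfl, show (β v).2.1.1 = 0 by rw [hv]; rfl⟩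
  have h3 : range (A - 1) ⊔ range (B - 1) ≤ range δ := sup_le
    (fun v hv => ⟨(⟨v, hv⟩, 0, 0), by simp [δ]⟩)
    fun v hv => ⟨(⟨-(A - 1) v, neg_mem ⟨v, rfl⟩⟩, ⟨v, hv⟩, 0), by simp [δ]⟩
  have h4 := finrank_range_add_finrank_ker δ
  have h5 := finrank_range_add_finrank_ker β
  rw [finrank_prod, finrank_prod] at h4
  have := finrank_mono h1
  have := finrank_mono h2
  have := finrank_mono h3
  have := rk_fs A
  have := rk_fs B
  have := rk_fs (A * B)
  omega

theorem rk_cube {N : End K V} (h : N ^ 3 = 0) {U : Submodule K V} (hU : ∀ v ∈ U, N v ∈ U) :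
    3 * finrank K (U.map N) ≤ 2 * finrank K U := by
  have h0 : U.map N ≤ U := by rintro _ ⟨v, hv, rfl⟩; exact hU v hv
  have h1 := rk_map N U
  have h2 := rk_map N (U.map N)
  have h3 := finrank_mono (inf_le_inf_right (ker N) h0)
  have h4 : (U.map N).map N ≤ U ⊓ ker N := by
    rintro _ ⟨_, ⟨v, hv, rfl⟩, rfl⟩
    exact ⟨hU _ (hU v hv), by simpa [pow_succ] using LinearMap.congr_fun h v⟩
  have := finrank_mono h4
  omega

theorem rk_sup {I : Type*} (s : Finset I) (U : I → Submodule K V) :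
    finrank K ↥(s.sup U) ≤ ∑ i ∈ s, finrank K (U i) := by
  classical
  induction s using Finset.induction_on with
  | empty => simp
  | insert i s hi ih =>
    rw [Finset.sup_insert, Finset.sum_insert hi]
    exact (finrank_add_le_finrank_add_finrank _ _).trans (by omega)

theorem rk_cube' {A : End K V} (h : (A - 1) ^ 3 = 0) {I : Type*} (s : Finset I)
    (U : I → Submodule K V) (hU : ∀ i, ∀ v ∈ U i, A v ∈ U i) (hs : s.sup U = ⊤) :
    finrank K V ≤ finrank K (fs A) + ∑ i ∈ s, 2 * finrank K (U i) / 3 := by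
  have h1 : range (A - 1) ≤ s.sup fun i => (U i).map (A - 1) := by
    rw [← Submodule.map_top, ← hs, map_le_iff_le_comap, Finset.sup_le_iff]
    exact fun i hi => map_le_iff_le_comap.1 (Finset.le_sup (f := fun i => (U i).map (A - 1)) hi)
  have h2 := (finrank_mono h1).trans ((rk_sup _ _).trans (Finset.sum_le_sum
    (g := fun i => 2 * finrank K (U i) / 3) fun i _ => by
      have := rk_cube h (U := U i) fun v hv => sub_mem (hU i v hv) hv
      omega))
  have := rk_fs A
  omega

theorem le_of_map {A B W : Submodule K V} (φ : End K V) (h : ∀ v ∈ A, φ v ∈ B)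
    (h' : ∀ v ∈ A, φ v ∈ W → v ∈ W) :
    finrank K A + finrank K ↥(B ⊓ W) ≤ finrank K ↥(A ⊓ W) + finrank K B := by
  have h1 := rk_map (W.mkQ ∘ₗ φ) A
  have h2 := rk_map W.mkQ B
  have h3 : A.map (W.mkQ ∘ₗ φ) ≤ B.map W.mkQ := by
    rintro _ ⟨v, hv, rfl⟩; exact ⟨_, h v hv, rfl⟩
  have h4 : A ⊓ ker (W.mkQ ∘ₗ φ) ≤ A ⊓ W := fun v hv =>
    ⟨hv.1, h' v hv.1 (by simpa using hv.2)⟩
  have := finrank_mono h3
  have := finrank_mono h4
  rw [ker_mkQ] at h2
  omega

end CF.E83
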