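import Cfsg.Agent.E83.B
import Cfsg.Agent.Comp.PG2
import Cfsg.Agent.Comp.MatG

/-! Checkers on words. -/

set_option autoImplicit false

namespace CF.E83

open Module Submodule LinearMap CF.Comp

theorem sum_cnt {M : Type*} [AddCommMonoid M] (t : ℕ → M) {n : ℕ} {l : List ℕ} (h : ∀ i ∈ l, i < n) :
    (l.map t).sum = ∑ i ∈ Finset.range n, l.count i • t i := by
  induction l with
  | nil => simp
  | cons a l ih =>
    simp only [List.map_cons, List.sum_cons, ih fun i hi => h i (by simp [hi]), List.count_cons,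
      add_smul, Finset.sum_add_distrib, beq_iff_eq, ite_smul, one_smul, zero_smul,
      Finset.sum_ite_eq, Finset.mem_range, h a (by simp), if_true, add_comm]

/-- All letters of `c` are in `bs`. -/
def sub (bs c : List ℕ) : Bool := c.all fun x => bs.any (Nat.beq x)

/-- Two words are equal. -/
noncomputable def req (rel : List ℕ → Bool) (u v : List ℕ) : Bool := rel (u ++ winv v)

/-- The check for `Good`. -/
noncomputable def goodC (rel : List ℕ → Bool) (g : ℕ) : List ℕ → List (List ℕ) → Bool
  | [], _ => true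
  | _ :: _, [] => false
  | b :: cs, c :: ct => sub cs c && req rel [g, b] (b :: g :: c) && goodC rel g cs ct

/-- The check for `Ser`. -/
noncomputable def serC (rel : List ℕ → Bool) : List ℕ → List (List ℕ × List (List ℕ)) → Bool
  | [], _ => true
  | _ :: _, [] => false
  | a :: bs, c :: ct => sub bs c.1 && req rel [a, a] c.1 && goodC rel a bs c.2 && serC rel bs ct

/-- The elements of a coset. -/
def lv : List ℕ → List ℕ → List (List ℕ)
  | [], w => [w]
  | a :: as, w => lv as w ++ lv as (a :: w)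

/-- The check for the classes. -/
noncomputable def clsC (rel : List ℕ → Bool) (R : List (List ℕ)) :
    List (List ℕ) → List (ℕ × List ℕ) → Bool
  | [], [] => true
  | w :: ws, c :: cs => req rel (c.2 ++ w) (R.getD c.1 [] ++ c.2) && clsC rel R ws cs
  | _, _ => false

/-- The check for a `2`-group. -/
noncomputable def cntC (rel : List ℕ → Bool) (as : List ℕ) (sc : List (List ℕ × List (List ℕ)))
    (R : List (List ℕ)) (cs : List (ℕ × List ℕ)) (ns : List ℕ) : Bool :=
  serC rel as sc && clsC rel R (lv as []) cs && cs.all (fun c => Nat.blt c.1 ns.length) &&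
    (List.range ns.length).all fun i => Nat.beq ((cs.map (·.1)).count i) (ns.getD i 0)

/-- The check for the action on cosets. -/
noncomputable def tabC (rel : List ℕ → Bool) (S : List ℕ) (t : List (List ℕ)) (x : ℕ) (π : ℕ → ℕ)
    (ss : List (List ℕ)) : Bool :=
  (List.range t.length).all fun p => Nat.blt (π p) t.length && sub S (ss.getD p []) &&
    req rel (x :: t.getD p []) (t.getD (π p) [] ++ ss.getD p [])

/-- A translate of an orbit. -/
def orb (π τ : ℕ → ℕ) (p : ℕ) : List Bool → List ℕ
  | [] => [p, π p, π (π p), π (π (π p)), π (π (π (π p)))]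
  | b :: w => (orb π τ p w).map (cond b τ π)

/-- The check for a relation between orbits. -/
def orbC (n : ℕ) (π τ : ℕ → ℕ) (ct : List (ℕ × List Bool)) : Bool :=
  ct.all (fun c => Nat.blt c.1 n && Nat.beq (π (π (π (π (π c.1))))) c.1) &&
    (List.range n).all fun p => Nat.beq ((ct.flatMap fun c => orb π τ c.1 c.2).count p % 3)
      (cond (Nat.beq p 0) 1 0)

variable {K V : Type*} [Field K] [AddCommGroup V] [Module K V] {X : Type*} [Group X]
  {r : X →* End K V} {f : ℕ → X} {rel ne : List ℕ → Bool}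

theorem mem_of_sub {bs c : List ℕ} (h : sub bs c) {S : Subgroup X} (hS : ∀ x ∈ bs, evL f x ∈ S) :
    ev f c ∈ S := S.list_prod_mem fun g hg => by
  obtain ⟨x, hx, rfl⟩ := List.mem_map.1 hg
  obtain ⟨y, hy, e⟩ := List.any_eq_true.1 (List.all_eq_true.1 h x hx)
  exact hS x (Nat.eq_of_beq_eq_true e ▸ hy)

theorem fix_of_sub {bs c : List ℕ} (h : sub bs c) {v : V} (hv : v ∈ Wl r (bs.map (evL f))) :
    r (ev f c) v = v := (mem_of_sub h (S := Sg r (Wl r (bs.map (evL f))) ⊤) fun x hx =>
  ⟨fun _ hw => mem_Wl.1 hw _ (List.mem_map_of_mem hx), fun _ => trivial⟩).1 v hv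

theorem fs_lv (φ : X → ℤ) (as w : List ℕ) :
    Fs φ (as.map (evL f)) (ev f w) = ((lv as w).map fun w => φ (ev f w)).sum := by
  induction as generalizing w with
  | nil => simp [Fs, lv]
  | cons a as ih => simp [Fs, lv, ← ih]

variable (f rel ne) in
/-- The checks are sound. -/
structure Ck : Prop where
  rel : ∀ {w}, rel w = true → ev f w = 1
  ne : ∀ {w}, ne w = true → ev f w ≠ 1

namespace Ck

variable (h : Ck f rel ne)
include h

theorem eq {u v : List ℕ} (e : req rel u v) : ev f u = ev f v := by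
  have := h.rel e
  rwa [ev_append, ev_winv, mul_inv_eq_one] at this

theorem good {g : ℕ} {as : List ℕ} {ct : List (List ℕ)} (e : goodC rel g as ct) :
    Good r (as.map (evL f)) (evL f g) := by
  induction as generalizing ct with
  | nil => trivial
  | cons b cs ih =>
    obtain _ | ⟨c, ct⟩ := ct
    · simp [goodC] at e
    simp only [goodC, Bool.and_eq_true] at e
    refine ⟨ih e.2, fun v hv => ?_⟩
    have := congrArg (r · v) (h.eq e.1.2)
    simpa [fix_of_sub e.1.1 hv] using this

theorem ser {as : List ℕ} {ct : List (List ℕ × List (List ℕ))} (e : serC rel as ct) :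
    Ser r (as.map (evL f)) := by
  induction as generalizing ct with
  | nil => trivial
  | cons b cs ih =>
    obtain _ | ⟨c, ct⟩ := ct
    · simp [serC] at e
    simp only [serC, Bool.and_eq_true] at e
    refine ⟨ih e.2, h.good e.1.2, fun v hv => ?_⟩
    have := congrArg (r · v) (h.eq e.1.1.2)
    simpa [fix_of_sub e.1.1.1 hv] using this

theorem tab {S : List ℕ} {t ss : List (List ℕ)} {x : ℕ} {π : ℕ → ℕ} (e : tabC rel S t x π ss)
    {w : V} (hw : w ∈ Wl r (S.map (evL f))) {p : ℕ} (hp : p < t.length) : π p < t.length ∧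
      r (evL f x) (r (ev f (t.getD p [])) w) = r (ev f (t.getD (π p) [])) w := by
  have := List.all_eq_true.1 e p (List.mem_range.2 hp)
  simp only [Bool.and_eq_true, Nat.blt_eq] at this
  refine ⟨this.1.1, ?_⟩
  have h1 := congrArg (r · w) (h.eq this.2)
  simpa only [ev_cons, ev_append, map_mul, End.mul_apply, fix_of_sub this.1.2 hw] using h1

theorem pts (h3 : (3 : K) = 0) {S : List ℕ} {t s1 s2 : List (List ℕ)} {x y : ℕ} {π τ : ℕ → ℕ}
    (e1 : tabC rel S ([] :: t) x π s1) (e2 : tabC rel S ([] :: t) y τ s2)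
    {es : List (ℕ × List (List ℕ))} (e3 : es.all fun e => tabC rel S ([] :: t) e.1 id e.2)
    {ct : List (ℕ × List Bool)} (e4 : orbC (t.length + 1) π τ ct)
    (H : ∀ v, (∀ e ∈ es, r (evL f e.1) v = v) → r (evL f x) v = v → v = 0)
    {w : V} (hw : w ∈ Wl r (S.map (evL f))) : w = 0 := by
  set u : ℕ → V := fun p => r (ev f (([] :: t).getD p [])) w with hu
  simp only [orbC, Bool.and_eq_true, List.all_eq_true, Nat.blt_eq, Nat.beq_eq, List.mem_range] at e3 e4
  have k1 : ∀ p < t.length + 1, π p < t.length + 1 ∧ r (evL f x) (u p) = u (π p) :=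
    fun p hp => h.tab e1 hw hp
  have k2 : ∀ p < t.length + 1, τ p < t.length + 1 ∧ r (evL f y) (u p) = u (τ p) :=
    fun p hp => h.tab e2 hw hp
  have k3 : ∀ e ∈ es, ∀ p < t.length + 1, r (evL f e.1) (u p) = u p :=
    fun e he p hp => (h.tab (e3 e he) hw hp).2
  have k4 : ∀ (A : End K V) (σ : ℕ → ℕ), (∀ p < t.length + 1, σ p < t.length + 1 ∧ A (u p) = u (σ p)) →
      ∀ l : List ℕ, (∀ p ∈ l, p < t.length + 1) → (∀ p ∈ l.map σ, p < t.length + 1) ∧
        ((l.map σ).map u).sum = A (l.map u).sum := fun A σ hσ l hl =>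
    ⟨by simpa using fun p hp => (hσ p (hl p hp)).1, by
      rw [map_list_sum, List.map_map, List.map_map]
      exact congrArg _ (List.map_congr_left fun p hp => (hσ p (hl p hp)).2.symm)⟩
  have k5 : ∀ c ∈ ct, ∀ b, (∀ p ∈ orb π τ c.1 b, p < t.length + 1) ∧
      ((orb π τ c.1 b).map u).sum = 0 := fun c hc b => by
    induction b with
    | nil =>
      obtain ⟨p0, p5⟩ := e4.1 c hc
      have p1 := (k1 _ p0).1
      have p2 := (k1 _ p1).1
      have p3 := (k1 _ p2).1
      have p4 := (k1 _ p3).1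
      refine ⟨by simp only [orb, List.forall_mem_cons, p0, p1, p2, p3, p4]; simp,
        H _ (fun e he => ?_) ?_⟩
      · simp only [orb, List.map_cons, List.sum_cons, map_add, k3 e he _ p0, k3 e he _ p1,
          k3 e he _ p2, k3 e he _ p3, k3 e he _ p4, List.map_nil, List.sum_nil, add_zero]
      · simp only [orb, List.map_cons, List.sum_cons, map_add, (k1 _ p0).2, (k1 _ p1).2, (k1 _ p2).2,
          (k1 _ p3).2, (k1 _ p4).2, p5, List.map_nil, List.sum_nil, add_zero]
        abel
    | cons b l ih =>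
      cases b
      · exact ⟨(k4 _ _ k1 _ ih.1).1, ((k4 _ _ k1 _ ih.1).2.trans (by rw [ih.2, map_zero]))⟩
      · exact ⟨(k4 _ _ k2 _ ih.1).1, ((k4 _ _ k2 _ ih.1).2.trans (by rw [ih.2, map_zero]))⟩
  have k6 : ((ct.flatMap fun c => orb π τ c.1 c.2).map u).sum = 0 := by
    rw [List.map_flatMap, List.flatMap, List.sum_flatten]
    refine List.sum_eq_zero fun v hv => ?_
    simp only [List.map_map, List.mem_map] at hv
    obtain ⟨c, hc, rfl⟩ := hv
    exact (k5 c hc _).2
  rw [sum_cnt u (n := t.length + 1) fun p hp => by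
    obtain ⟨c, hc, hp⟩ := List.mem_flatMap.1 hp
    exact (k5 c hc _).1 p hp] at k6
  have k7 : ∀ (n : ℕ) (v : V), n • v = (n % 3) • v := fun n v => by
    conv_lhs => rw [← Nat.mod_add_div n 3, add_smul, mul_smul, ← Nat.cast_smul_eq_nsmul K 3]
    simp [h3]
  rw [Finset.sum_congr rfl fun p hp => (k7 _ _).trans (congrArg (· • u p)
    (e4.2 p (Finset.mem_range.1 hp))), Finset.sum_range_succ'] at k6
  simpa [hu, Nat.beq] using k6

variable [FiniteDimensional K V]

theorem cls {R ws : List (List ℕ)} {cs : List (ℕ × List ℕ)} (e : clsC rel R ws cs) :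
    (ws.map fun w => bt r (ev f w)) = (cs.map (·.1)).map fun i => bt r (ev f (R.getD i [])) := by
  induction ws generalizing cs with
  | nil => cases cs <;> simp_all [clsC]
  | cons w ws ih =>
    obtain _ | ⟨c, cs⟩ := cs
    · simp [clsC] at e
    simp only [clsC, Bool.and_eq_true] at e
    have := h.eq e.1
    rw [ev_append, ev_append, ← mul_inv_eq_iff_eq_mul] at this
    simp only [List.map_cons, ih e.2, ← this, bt_conj]

theorem cnt (h2 : (2 : K) ≠ 0) {as ns : List ℕ} {sc : List (List ℕ × List (List ℕ))}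
    {R : List (List ℕ)} {cs : List (ℕ × List ℕ)} (e : cntC rel as sc R cs ns) :
    Ser r (as.map (evL f)) ∧ ∑ i ∈ Finset.range ns.length, ns.getD i 0 * bt r (ev f (R.getD i [])) =
      2 ^ as.length * finrank K (Wl r (as.map (evL f))) := by
  simp only [cntC, Bool.and_eq_true, List.all_eq_true, Nat.blt_eq, Nat.beq_eq, List.mem_range] at e
  have h1 := (h.ser (r := r) e.1.1.1).sum h2
  rw [← ev_nil f, fs_lv, h.cls e.1.1.2, sum_cnt _ (n := ns.length) (by simpa using fun _ _ => e.1.2 _),
    List.length_map] at h1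
  refine ⟨h.ser e.1.1.1, Eq.trans (Finset.sum_congr rfl fun i hi => ?_) h1⟩
  rw [e.2 i (Finset.mem_range.1 hi), nsmul_eq_mul]

end Ck

/-- The word has a scalar matrix. -/
noncomputable def relM (T : Tab) (d m : ℕ) (Ms : List (List (List ℕ))) (w : List ℕ) : Bool :=
  lettersLe m [w] && prodK T d (lmap (nth [] Ms) w) fun C => eqM d C (scalM d (ent C 0 0))

/-- The word does not commute with one of the first two generators. -/
noncomputable def neM (T : Tab) (d m : ℕ) (Ms : List (List (List ℕ))) (w : List ℕ) : Bool :=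
  [1, 3].any fun z => wordNe T d m Ms (w ++ z :: winv w ++ [linv z])

theorem exists_ck {F ι G : Type*} [CommRing F] [Fintype ι] [DecidableEq ι] [Group G] {T : Tab}
    {el : ℕ → F} {d m : ℕ} {ε : ι ≃ Fin d} {ρ : G →* Matrix ι ι F} (hρ : Function.Injective ρ)
    {Ms : List (List (List ℕ))} (hT : T.Ok el) (hg : ∀ i < m, ∃ x, ρ x = mat el ε (nth [] Ms (2 * i + 1)))
    (hl : letOK T d m Ms) {H : Subgroup X} (φ : H ≃* G ⧸ Subgroup.center G) :
    ∃ f : ℕ → X, Ck f (relM T d m Ms) (neM T d m Ms) := by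
  obtain ⟨g, h1, -⟩ := exists_els ρ hg
  have h := hT.matRep h1 hl
  let j : G →* X := (H.subtype.comp φ.symm.toMonoidHom).comp (QuotientGroup.mk' _)
  have hj : ∀ x, j x = 1 ↔ x ∈ Subgroup.center G := fun x => by simp [j]
  refine ⟨fun i => j (g i), fun {w} e => ?_, fun {w} e e' => ?_⟩
  · rw [← map_ev, hj]
    obtain ⟨h2, h3⟩ := Bool.and_eq_true_iff.1 e
    obtain ⟨C, h4, h5⟩ := hT.prodK ε h3
    have h7 : ρ (ev g w) = mat el ε C := by
      rw [h4, lmap_eq, List.map_map, ev, map_list_prod, List.map_map]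
      exact congrArg _ (List.map_congr_left fun x hx => h.eq x
        (ble_iff.1 (lall_iff.1 (lall_iff.1 h2 w (by simp)) x hx)))
    exact Subgroup.mem_center_iff.2 fun x => hρ (by
      rw [ρ.map_mul, ρ.map_mul, h7, mat_eqM ε h5, hT.mat_scalM, Matrix.mul_smul, Matrix.smul_mul,
        mul_one, one_mul])
  · rw [← map_ev, hj, Subgroup.mem_center_iff] at e'
    obtain ⟨z, -, e⟩ := List.any_eq_true.1 e
    exact h.ne_one e (by simp [ev_append, ev_winv, evL_linv, ← mul_assoc, ← e' (evL g z)])

end CF.E83
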