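import Cfsg.Agent.E83.C
import Cfsg.Agent.Geom.Sm5

/-! Eigenvalues of semisimple elements of `E₈(3)` on the adjoint module: tables. -/

set_option autoImplicit false

namespace CF.E83

open CF.Chev CF.BN CF.ExA Cfsg.Lie Matrix Finset CF.Geom.Sm Polynomial

theorem aeval_eq_zero {n N : ℕ} {I : Type*} [Fintype I] [DecidableEq I] {M : Matrix I I ℤ}
    (hM : M ^ N = 1) (hn : Fintype.card I < n.totient) {P : ℤ[X]}
    (hP : X ^ N - 1 = cyclotomic n ℤ * P) : aeval M P = 0 := by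
  let φ : Matrix I I ℤ →ₐ[ℤ] Matrix I I ℚ := (Int.castRingHom ℚ).mapMatrix.toIntAlgHom
  have h0 : 0 < n := Nat.totient_pos.1 (by omega)
  obtain ⟨a, b, e⟩ := (cyclotomic.irreducible_rat h0).coprime_iff_not_dvd.2 fun h =>
    (natDegree_le_of_dvd h (φ M).charpoly_monic.ne_zero).not_gt (by
      rwa [charpoly_natDegree_eq_dim, natDegree_cyclotomic])
  have h1 := congrArg (aeval (φ M)) e
  rw [map_add, map_mul, map_mul, aeval_self_charpoly, mul_zero, add_zero, map_one,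
    ← map_cyclotomic_int n ℚ, ← algebraMap_int_eq, aeval_map_algebraMap] at h1
  have h2 := congrArg (aeval (φ M)) hP
  rw [map_sub, map_pow, aeval_X, ← map_pow, hM, map_one, map_one, sub_self, map_mul] at h2
  have h3 : φ (aeval M P) = 0 := by
    rw [← aeval_algHom_apply, ← one_mul (aeval (φ M) P), ← h1, mul_assoc, ← h2, mul_zero]
  ext i j
  exact Int.cast_eq_zero.1 (congrFun (congrFun h3 i) j)

instance fact41 : Fact (Nat.Prime 41) := ⟨by norm_num⟩

theorem no41 {K : Type*} [Field K] {c : Fin 8 → Kˣ} (hc : orderOf c = 41) {w : Equiv.Perm (Fin 240)}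
    (hw : w ∈ cE8.W) (e : mp (Mw cE8 w) c = c ^ 26) : False := by
  have h1 : Mw cE8 w ^ 696729600 = 1 := by
    rw [← Mw_pow (cE8.W_le_Aut hw), ← show Nat.card cE8.W = _ from cardWE8, ← Mw_one (C := cE8)]
    exact congrArg (Mw cE8 ·.1) (pow_card_eq_one' (x := (⟨w, hw⟩ : cE8.W)))
  obtain ⟨k, hk⟩ : ∃ k, k = 17418240 := ⟨_, rfl⟩
  obtain ⟨N, hN⟩ : ∃ N, 40 * k = N := ⟨_, rfl⟩
  rw [show 696729600 = N by omega] at h1
  obtain ⟨P, hP⟩ := (cyclotomic.dvd_X_pow_sub_one 40 ℤ).trans (pow_one_sub_dvd_pow_mul_sub_one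
    (X : ℤ[X]) 40 k)
  rw [hN] at hP
  have h2 := orderOf_dvd_eval e P (aeval_eq_zero h1 (by decide +kernel) hP) rfl
  have h3 := congrArg (map (Int.castRingHom (ZMod 41))) hP
  rw [Polynomial.map_sub, Polynomial.map_pow, map_X, Polynomial.map_one, Polynomial.map_mul,
    map_cyclotomic_int] at h3
  have h4 : (X ^ N - 1 : (ZMod 41)[X]).Separable :=
    X_pow_sub_one_separable_iff.2 (by rw [← hN, hk]; decide +kernel)
  obtain ⟨a, b, h5⟩ := (h3 ▸ h4).isCoprime
  have h6 : (cyclotomic 40 (ZMod 41)).IsRoot 26 := by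
    have : NeZero ((40 : ℕ) : ZMod 41) := ⟨by decide⟩
    rw [isRoot_cyclotomic_iff, IsPrimitiveRoot.iff_orderOf, orderOf_eq_iff (by decide)]
    decide +kernel
  have h7 : (P.map (Int.castRingHom (ZMod 41))).eval 26 = 0 := by
    rw [hc, ← ZMod.intCast_zmod_eq_zero_iff_dvd] at h2
    exact (eval_intCast_map (Int.castRingHom (ZMod 41)) P 26).trans h2
  have h8 := congrArg (eval 26) h5
  rw [eval_add, eval_mul, eval_mul, h6, h7] at h8
  simp at h8

/-- The values of the roots. -/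
def vals (m : ℕ) (x : List ℤ) : List ℕ := (List.range 240).map (xv m (gl x))

/-- The sum over the weights. -/
def sl (G : ℤ → ℤ) (l : List ℕ) : ℤ := 8 * G 0 + (l.map fun n : ℕ => G n).sum

/-- An indicator function. -/
def ind (m : ℕ) (k j n : ℤ) : ℤ := if k * n % m = j then 1 else 0

theorem ES_eq {m : ℕ} (hm : 0 < m) (G : ℤ → ℤ) (x : List ℤ) :
    ES cE8 m G (vv (gl x)) = sl G (vals m x) := by
  rw [ES, sl, vals, List.map_map, ← sum_map_val, ← Multiset.sum_coe, ← Multiset.map_coe]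
  refine congrArg _ (Eq.trans ?_ (sum_range fun r => G (xv m (gl x) r)).symm)
  simp only [xv_eq hm]
  rfl

theorem vv_ofFn (x : Fin 8 → ℤ) : vv (gl (List.ofFn x)) = x := fn_ofFn x

theorem ES_smul (m : ℕ) (G : ℤ → ℤ) (k : ℤ) (y : Fin 8 → ℤ) :
    ES cE8 m G (k • y) = ES cE8 m (fun n => G (k * n % m)) y := by
  simp [ES, pr_vec, mul_assoc, Int.mul_emod k, ← mul_sum]

/-- The check over an alcove. -/
noncomputable def chk (m : ℕ) (Q : List ℤ → List ℕ → Bool) : Bool :=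
  allAlc [2, 3, 4, 6, 5, 4, 3, 2] m (trA adE8 1 fun _ x => 8 * qE (fn 8 x) % m != 0 ||
    Comp.forceL (vals m x) fun l =>
      sl (fun n => 256 ^ (3 * n % m).toNat) l != sl (fun n => 256 ^ n.toNat) l || Q x l)

theorem alc {m : ℕ} [NeZero m] {Q : List ℤ → List ℕ → Bool} (h : chk m Q) {y : Fin 8 → ℤ}
    {w : Equiv.Perm (Fin 240)} (hw : w ∈ cE8.W) (e : Mz cE8 m w *ᵥ red m y = (3 : ℤ) • red m y) :
    ∃ v ∈ cE8.W, ∃ x : List ℤ, red m (Mw cE8 v *ᵥ y) = red m (vv (gl x)) ∧ Q x (vals m x) := by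
  obtain ⟨v, hv, x, s, h1, -, h3⟩ := alcove (C := cE8) carE8 239 alcE8 h (red m y)
  have h2 : red m (Mw cE8 v *ᵥ y) = red m x := (Mz_red v y).symm.trans h1
  refine ⟨v, hv, List.ofFn x, by rwa [vv_ofFn], ?_⟩
  simp only [Bool.or_eq_true, bne_iff_ne, Comp.forceL_eq, fn_ofFn,
    ← ES_eq (NeZero.pos m), vv_ofFn] at h3
  refine (h3.resolve_left fun h => h ?_).resolve_left fun h => h ?_
  · refine Int.emod_eq_zero_of_dvd ((ZMod.intCast_zmod_eq_zero_iff_dvd _ m).1 ?_)
    have := qE_Mz hw (red m y)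
    rw [e] at this
    rw [Int.cast_mul, ← qE_cast, ← h1, qE_Mz hv, ← sub_eq_zero.2 this]
    simp only [qE, Pi.smul_apply, zsmul_eq_mul]
    push_cast; ring
  · rw [← ES_smul m (fun n => 256 ^ n.toNat), ← ES_congr h2, ES_Mw hv, ← ES_Mw hw y,
      ES_congr ((Mz_red w y).symm.trans (e.trans (red_smul 3 y).symm)), ← ES_Mw hv (_ • y)]
    exact ES_congr (by rw [mulVec_smul, red_smul, red_smul, h2])

/-- The values on an element of order dividing `8` and its powers. -/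
def T8 : List (ℤ × ℤ × ℤ) :=
  [(-8, 248, 248), (-6, 132, 24), (-4, 24, 248), (-4, 64, -8), (-2, 4, 24), (-2, 28, 24),
  (0, -8, 248), (0, 0, -8), (0, 8, -8), (2, -4, 24), (2, 4, 24), (4, 0, -8), (4, 24, 248),
  (6, 4, 24), (8, -8, 248), (12, 64, -8), (14, 28, 24), (16, 0, -8), (24, 248, 248),
  (26, 132, 24), (28, 24, 248), (34, -4, 24), (44, 64, -8), (64, -8, 248), (78, 28, 24),
  (132, 24, 248), (248, 248, 248)]

/-- Multiplicity of `1` minus multiplicity of `-1`. -/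
def b8 (k : ℤ) (l : List ℕ) : ℤ := sl (ind 8 k 0) l - sl (ind 8 k 4) l

/-- An element of order `11`. -/
def x11 : List ℤ := [15, 22, 29, 43, 35, 27, 19, 10]

/-- An element of the centre of its centralizer. -/
def x37 : List ℤ := [0, 25, 35, 33, 6, 16, 26, 32]

/-- An element of order `31`. -/
def x31 : List ℤ := [17, 21, 2, 28, 9, 13, 4, 1]

theorem chk8 : chk 8 fun _ l => (b8 1 l, b8 2 l, b8 4 l) ∈ T8 := by decide +kernel

theorem chk5 : chk 5 fun x l => x.all (· % 5 == 0) || sl (ind 5 1 0) l ∈ [48, 68] := by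
  decide +kernel

theorem chk11 : chk 11 fun x _ => x.all (· % 11 == 0) || x == x11 := by decide +kernel

theorem dim11 : sl (ind 11 1 0) (vals 11 x11) = 28 := by decide +kernel

theorem chk37 : (Comp.forceL (vals 37 x37) fun l =>
    decide (((List.range 37).map fun j : ℕ => 2 * sl (ind 37 1 j) l / 3).sum ≤ 146)) = true := by
  decide +kernel

theorem chk37' : allLt 240 fun r => xv 11 (gl x11) r != 0 || xv 37 (gl x37) r == 0 := by
  decide +kernel

theorem chk31 : allLt 240 fun r => xv 31 (gl x31) r != 0 := by decide +kernel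

theorem eig31 : Mz cE8 31 (cE8.wp [0, 1, 2, 3, 4, 5, 6, 7]) *ᵥ red 31 (vv (gl x31)) =
    (3 : ℤ) • red 31 (vv (gl x31)) := by
  rw [Mz_red, of_chkW (show chkW 31 _ (gl x31) fun i => 3 * gl x31 i by decide +kernel),
    ← red_smul]; rfl

end CF.E83
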