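import Cfsg.Agent.E83.D

/-! The adjoint module of `E₈(3)`. -/

set_option autoImplicit false

namespace CF.E83

open CF.Chev CF.BN CF.ExA Cfsg.Lie Matrix Finset CF.Geom.Sm Module

/-- The facts that are used about the adjoint module. -/
structure Dat {K V X : Type*} [Field K] [AddCommGroup V] [Module K V] [Group X]
    (r : X →* End K V) : Prop where
  h3 : (3 : K) = 0
  dim : finrank K V = 248
  t8 : ∀ x, x ^ 8 = 1 → (bt r x, bt r (x ^ 2), bt r (x ^ 4)) ∈ T8
  inj : ∀ x, bt r x = 248 → x = 1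
  t5 : ∀ x, x ^ 5 = 1 → x ≠ 1 → dm r x = 48 ∨ dm r x = 68
  t11 : ∀ x, x ^ 11 = 1 → x ≠ 1 → dm r x = 28
  t31 : ∀ x, x ^ 31 = 1 → x ≠ 1 → dm r x = 8
  t33 : ∀ s u, s ^ 11 = 1 → s ≠ 1 → u ^ 3 = 1 → u * s = s * u → 102 ≤ dm r u
  t41 : ∀ x u : X, x ^ 41 = 1 → u * x * u⁻¹ = x ^ 36 → x = 1

theorem rk_eig {K V I : Type*} [Field K] [AddCommGroup V] [Module K V] [Fintype I]
    [DecidableEq K] (b : Basis I K V) {f : End K V} {l : I → K} (h : ∀ i, f (b i) = l i • b i)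
    (μ : K) : finrank K (f.eigenspace μ) = #{i | l i = μ} := by
  have h1 : ∀ i v, b.repr (f v) i = l i * b.repr v i := fun i v =>
    LinearMap.congr_fun (b.ext (f₁ := b.coord i ∘ₗ f) (f₂ := l i • b.coord i) fun j => by
      by_cases e : j = i <;> simp [h, e]) v
  rw [← Fintype.card_subtype, ← finrank_span_eq_card
    (b.linearIndependent.comp (fun i : {i // l i = μ} => i.1) Subtype.val_injective),
    Set.range_comp]
  refine congrArg (fun W : Submodule K V => finrank K W) ?_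
  refine le_antisymm (fun v hv => b.mem_span_image.2 fun i hi => ?_) (Submodule.span_le.2 ?_)
  · have := h1 i v
    rw [End.mem_eigenspace_iff.1 hv, map_smul, Finsupp.smul_apply, smul_eq_mul,
      mul_left_inj' (by simpa using hi)] at this
    simpa using this.symm
  · rintro _ ⟨_, ⟨i, rfl⟩, rfl⟩
    exact End.mem_eigenspace_iff.2 ((h _).trans (by rw [i.2]))

/-- The weights. -/
noncomputable def nv (y : Fin 8 → ℤ) : Fin 8 ⊕ Fin 240 → ℤ := Sum.elim 0 fun r => pr cE8 y (cE8.vec r)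

section
variable {K G : Type*} [Field K] [Group G]

/-- The action on the adjoint module. -/
noncomputable def RR (f : G →* GL (Fin 8 ⊕ Fin 240) K) : G →* End K (Fin 8 ⊕ Fin 240 → K) :=
  ((toLinAlgEquiv' (R := K)).toMulEquiv.toMonoidHom.comp (Units.coeHom _)).comp f

variable {ρ : StRep cE8 K G} (h : ρ.R3) {f : G →* GL (Fin 8 ⊕ Fin 240) K} (hf : ρ.IsAdHom f)
include hf

theorem RR_tor (z : Kˣ) (y : Fin 8 → ℤ) (a : Fin 8 ⊕ Fin 240) :
    RR f (h.tor fun i => z ^ y i) (Pi.basisFun K _ a) = ((z ^ nv y a : Kˣ) : K) • Pi.basisFun K _ a := by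
  have : (f (h.tor fun i => z ^ y i) : Matrix _ _ K) = diagonal fun a => ((z ^ nv y a : Kˣ) : K) := by
    rw [ad_tor h hf]
    show diagonal _ = _
    congr 1
    funext a
    rcases a with a | a
    · simp [nv]
    · exact congrArg _ (rv_zp z y a)
  show toLin' (f _).1 _ = _
  rw [this]
  funext b
  by_cases e : b = a <;> simp [mulVec_diagonal, e]

theorem rk_tor {z : Kˣ} {m : ℕ} (hz : orderOf z = m) (y : Fin 8 → ℤ) (j : ℤ) :
    (finrank K ((RR f (h.tor fun i => z ^ y i)).eigenspace ((z ^ j : Kˣ) : K)) : ℤ) =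
      ES cE8 m (ind m 1 (j % m)) y := by
  classical
  rw [rk_eig _ (RR_tor h hf z y), card_filter, Fintype.sum_sum_type, ES]
  simp only [Units.val_inj, zpow_eq_zpow_iff_modEq, hz, Int.ModEq, nv, ind, Sum.elim_inl,
    Sum.elim_inr, Pi.zero_apply, sum_const, card_univ, smul_eq_mul, one_mul, Int.emod_emod_of_dvd,
    dvd_refl, Nat.cast_add, Nat.cast_mul, Nat.cast_sum, Nat.cast_ite, Nat.cast_one, Nat.cast_zero]

end

theorem fs_eig {K V : Type*} [Field K] [AddCommGroup V] [Module K V] (A : End K V) :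
    fs A = A.eigenspace 1 ∧ fs (-A) = A.eigenspace (-1) := by
  constructor <;> ext v <;> simp [mem_fs, neg_eq_iff_eq_neg]

theorem fs_conj' {K V X : Type*} [Field K] [AddCommGroup V] [Module K V] [FiniteDimensional K V]
    [Group X] {r : X →* End K V} (A : End K V) (u : X) :
    finrank K (fs (-(r u * A * r u⁻¹))) = finrank K (fs (-A)) := by
  rw [← fs_conj (r := r) (-A) u, _root_.mul_neg, _root_.neg_mul]

theorem ES_ind {m : ℕ} (k j : ℤ) (y : Fin 8 → ℤ) :
    ES cE8 m (ind m 1 j) (k • y) = ES cE8 m (ind m k j) y := by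
  rw [ES_smul]; congr 1; funext n; simp [ind]

variable {X : Type*} [Group X] (L : LS cE8 1 3 3 1 X)

/-- The embedding in the algebraic group. -/
noncomputable def jG : X →* L.G :=
  (Fx L.T.σ).subtype.comp (MulEquiv.ofBijective L.θ (θ_bij L)).symm.toMonoidHom

theorem jG_inj : Function.Injective (jG L) :=
  Subtype.val_injective.comp (MulEquiv.ofBijective L.θ (θ_bij L)).symm.injective

theorem jG_θ (g : Fx L.T.σ) : jG L (L.θ g) = g :=
  congrArg Subtype.val ((MulEquiv.ofBijective L.θ (θ_bij L)).symm_apply_apply g)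

theorem exists_μ {m : ℕ} (hm : m.Coprime 3) : ∃ μ : L.Kˣ, orderOf μ = m :=
  exists_orderOf fun e => absurd (hm.symm.eq_one_of_dvd ((CharP.cast_eq_zero_iff L.K 3 m).1 e))
    (by decide)

variable {L} {m N : ℕ} {μ : L.Kˣ} {x : X} {g : L.G} {y : Fin 8 → ℤ}

theorem exists_diag [NeZero m] (hm : m.Coprime 3) (hμ : orderOf μ = m) (hx : x ^ m = 1) :
    ∃ (g : L.G) (y : Fin 8 → ℤ), jG L x = g * L.h.r3.tor (fun i => μ ^ y i) * g⁻¹ ∧
      ∃ w ∈ cE8.W, Mz cE8 m w *ᵥ red m y = (3 : ℤ) • red m y := by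
  obtain ⟨w, hw, c, hc, g, -, hg⟩ := L.frob.exists_mem_WTor L.big L.σ_tor (s := jG L x)
    ((MulEquiv.ofBijective L.θ (θ_bij L)).symm x).2 (hm.coprime_dvd_left (orderOf_dvd_of_pow_eq_one (by rw [← map_pow, hx, map_one])))
  have h7 : c ^ m = 1 := by
    have := congrArg (· ^ m) hg
    simp only [conj_pow, ← map_pow, hx, map_one] at this
    exact L.h.inj (by simpa using this.symm)
  choose y _ hy using fun i => (hμ ▸ IsPrimitiveRoot.orderOf μ : IsPrimitiveRoot μ m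
    ).eq_pow_of_mem_rootsOfUnity (ξ := c i) (congrFun h7 i)
  obtain rfl : c = fun i => μ ^ ((y i : ℕ) : ℤ) := funext fun i => by rw [zpow_natCast, hy]
  refine ⟨g, _, hg, w, hw, ?_⟩
  rw [mem_WTor_one, mp_zpow, zp_pow', zp_iff hμ] at hc
  rw [Mz_red, ← red_smul]
  exact hc

theorem pow_diag (e : jG L x = g * L.h.r3.tor (fun i => μ ^ y i) * g⁻¹) (k : ℕ) :
    jG L (x ^ k) = g * L.h.r3.tor (fun i => μ ^ ((k : ℤ) • y) i) * g⁻¹ := by
  rw [map_pow, e, conj_pow, ← map_pow, zp_pow']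

theorem eq_one_of (hμ : orderOf μ = m) (e : jG L x = g * L.h.r3.tor (fun i => μ ^ y i) * g⁻¹)
    {v : Equiv.Perm (Fin 240)} (hv : v ∈ cE8.W) {z : List ℤ}
    (h : red m (Mw cE8 v *ᵥ y) = red m (vv (gl z))) (hz : z.all (· % m == 0)) : x = 1 := by
  have h1 : red m (vv (gl z)) = 0 := funext fun i => (ZMod.intCast_zmod_eq_zero_iff_dvd _ _).2 (by
    by_cases hi : i.1 < z.length
    · exact Int.dvd_of_emod_eq_zero (beq_iff_eq.1 (List.all_eq_true.1 hz _ (by simp [vv, gl, hi])))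
    · simp [vv, gl, List.getElem?_eq_none (not_lt.1 hi)])
  have h2 : red m y = red m 0 := by
    rw [← Mz_inv hv (red m y), Mz_red, h, h1, mulVec_zero]; funext i; simp [red]
  rw [(zp_iff hμ).2 h2] at e
  exact jG_inj L (by simpa [← Pi.one_def] using e)

variable {f : L.G →* GL (Fin 8 ⊕ Fin 240) L.K} (hf : L.ρ.IsAdHom f)
include hf

theorem dm_eq (hμ : orderOf μ = m) (e : jG L x = g * L.h.r3.tor (fun i => μ ^ y i) * g⁻¹) :
    (dm ((RR f).comp (jG L)) x : ℤ) = ES cE8 m (ind m 1 0) y := by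
  rw [dm, MonoidHom.comp_apply, e, map_mul, map_mul, fs_conj, (fs_eig _).1]
  have := rk_tor L.h.r3 hf hμ y 0
  rwa [show ((μ ^ (0 : ℤ) : L.Kˣ) : L.K) = 1 by simp] at this

theorem bt_diag (hμ : orderOf μ = 8) (e : jG L x = g * L.h.r3.tor (fun i => μ ^ y i) * g⁻¹) :
    bt ((RR f).comp (jG L)) x = ES cE8 8 (ind 8 1 0) y - ES cE8 8 (ind 8 1 4) y := by
  have h1 : ((μ ^ (4 : ℤ) : L.Kˣ) : L.K) = -1 := by
    refine (sq_eq_one_iff.1 ?_).resolve_left fun h => ?_
    · rw [← Units.val_pow_eq_pow_val, ← zpow_natCast, ← _root_.zpow_mul, Units.val_eq_one,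
        ← orderOf_dvd_iff_zpow_eq_one, hμ]; decide
    · rw [Units.val_eq_one, ← orderOf_dvd_iff_zpow_eq_one, hμ] at h
      exact absurd h (by decide)
  rw [bt_eq, ← dm, dm_eq hf hμ e, MonoidHom.comp_apply, e, map_mul, map_mul, fs_conj',
    (fs_eig _).2, ← h1, rk_tor L.h.r3 hf hμ y 4]
  rfl

theorem t33 {s u : X} (hs : s ^ 11 = 1) (h1 : s ≠ 1) (hu : u ^ 3 = 1) (e : u * s = s * u) :
    102 ≤ dm ((RR f).comp (jG L)) u := by
  obtain ⟨μ, hμ⟩ := exists_μ L (m := 11) (by decide)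
  obtain ⟨ν, hν⟩ := exists_μ L (m := 37) (by decide)
  obtain ⟨g, y, h2, w, hw, h3⟩ := exists_diag (by decide) hμ hs
  obtain ⟨v, hv, x, h4, h5⟩ := alc chk11 hw h3
  obtain rfl : x = x11 := by
    simpa using (Bool.or_eq_true_iff.1 h5).resolve_left fun h => h1 (eq_one_of hμ h2 hv h4 h)
  have h6 : Commute (g⁻¹ * jG L u * g⁻¹⁻¹) (L.h.r3.tor fun i => ν ^ (Mw cE8 v⁻¹ *ᵥ vv (gl x37)) i) := by
    refine cent_le L.h (c := fun i => μ ^ y i) (isOfFinOrder_iff_pow_eq_one.2 ⟨11, by decide, by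
      rw [zp_pow, ← hμ, pow_orderOf_eq_one]; funext i; simp⟩) (fun r hr => ?_) ?_
    · rw [rv_zp, ← orderOf_dvd_iff_zpow_eq_one, hμ, ← pr_Mw (cE8.W_le_Aut hv),
        ← ZMod.intCast_zmod_eq_zero_iff_dvd, pr_red, h4, ← pr_red, ← xv_cast (by decide),
        ZMod.natCast_eq_zero_iff] at hr
      have h7 := allLt_iff.1 chk37' _ (v r).2
      have h8 := xv_eq (m := 11) (by decide) (gl x11) (v r)
      have h9 := xv_eq (m := 37) (by decide) (gl x37) (v r)
      simp only [Bool.or_eq_true, bne_iff_ne, beq_iff_eq] at h7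
      have := pr_Mw (cE8.W_le_Aut (inv_mem hv)) (vv (gl x37)) (v r)
      rw [Equiv.Perm.inv_def, Equiv.symm_apply_apply, ← Equiv.Perm.inv_def] at this
      rw [rv_zp, ← orderOf_dvd_iff_zpow_eq_one, hν, this]
      omega
    · have := congrArg (jG L) e
      rw [map_mul, map_mul, h2] at this
      refine (MulAut.conj g).injective ?_
      simpa [mul_assoc] using this
  obtain ⟨D, hD⟩ : ∃ D, D = RR f (L.h.r3.tor fun i => ν ^ (Mw cE8 v⁻¹ *ᵥ vv (gl x37)) i) := ⟨_, rfl⟩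
  obtain ⟨A, hA⟩ : ∃ A, A = RR f (g⁻¹ * jG L u * g⁻¹⁻¹) := ⟨_, rfl⟩
  have h7 : A ^ 3 = 1 := by rw [hA, ← map_pow, conj_pow, ← map_pow, hu]; simp
  have h8 := rk_cube' (A := A) (by
    have : (3 : L.K) = 0 := CharP.cast_eq_zero L.K 3
    rw [show (A - 1) ^ 3 = A ^ 3 - 1 + (3 : ℕ) • (A - A ^ 2) by
      simp only [pow_succ, pow_zero, one_mul, mul_sub, sub_mul, mul_one]; abel, h7,
      ← Nat.cast_smul_eq_nsmul L.K]
    simp [this]) (range 37) (fun j => D.eigenspace ((ν ^ (j : ℤ) : L.Kˣ) : L.K)) (fun j z hz => by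
      rw [End.mem_eigenspace_iff] at hz ⊢
      rw [← End.mul_apply, hD, hA, ← (h6.map (RR f)).eq, ← hD, End.mul_apply, hz, map_smul]) (by
    rw [eq_top_iff, ← (Pi.basisFun L.K _).span_eq, Submodule.span_le]
    rintro _ ⟨a, rfl⟩
    obtain ⟨n, hn⟩ : ∃ n, n = nv (Mw cE8 v⁻¹ *ᵥ vv (gl x37)) a := ⟨_, rfl⟩
    have h0 : (n % 37).toNat ∈ range 37 := mem_range.2 (by omega)
    generalize range 37 = s at h0 ⊢
    refine SetLike.le_def.1 (le_sup h0) (End.mem_eigenspace_iff.2 ?_)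
    rw [hD, RR_tor _ hf, ← hn, (zpow_eq_zpow_iff_modEq (m := n)).2]
    rw [hν, Int.ModEq]; omega)
  have h9 := chk37
  rw [Comp.forceL_eq, decide_eq_true_eq] at h9
  have h10 : ((∑ j ∈ range 37, 2 * finrank L.K (D.eigenspace ((ν ^ (j : ℤ) : L.Kˣ) : L.K)) / 3 : ℕ) : ℤ)
      ≤ 146 := by
    refine le_of_eq_of_le ?_ h9
    rw [Nat.cast_sum, ← show ∀ (n : ℕ) (F : ℕ → ℤ), ∑ j ∈ range n, F j =
      ((List.range n).map F).sum from fun _ _ => rfl]
    refine sum_congr rfl fun j hj => ?_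
    rw [← ES_eq (by decide), ← ES_Mw (inv_mem hv), Int.natCast_div, Nat.cast_mul, hD,
      rk_tor _ hf hν, Int.emod_eq_of_lt (by omega) (by simpa using hj)]
    rfl
  rw [hA, map_mul, map_mul, fs_conj, finrank_fintype_fun_eq_card, Fintype.card_sum,
    Fintype.card_fin, Fintype.card_fin] at h8
  rw [dm, MonoidHom.comp_apply]
  omega

theorem t31 (hX : Nat.card X = 31 * N) (hN : ¬ 31 ∣ N) (hx : x ^ 31 = 1) (h1 : x ≠ 1) :
    dm ((RR f).comp (jG L)) x = 8 := by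
  have : Fact (Nat.Prime 31) := ⟨by norm_num⟩
  have h0 : N ≠ 0 := by rintro rfl; simp at hN
  have : Finite X := Nat.finite_of_card_ne_zero (by omega)
  have hc : 31 ^ (Nat.card X).factorization 31 = 31 := by
    rw [hX, Nat.factorization_mul (by decide) h0, Finsupp.add_apply,
      Nat.factorization_eq_zero_of_not_dvd hN, Nat.Prime.factorization_self Fact.out]; rfl
  obtain ⟨μ, hμ⟩ := exists_μ L (m := 31) (by decide)
  obtain ⟨u, ψ, -, h2, -⟩ := L.frob.exists_torus L.big L.σ_tor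
    (cE8.wp_mem_W [0, 1, 2, 3, 4, 5, 6, 7])
  obtain ⟨a, ha⟩ : ∃ a, jG L a = u⁻¹ * L.h.r3.tor (fun i => μ ^ vv (gl x31) i) * u⁻¹⁻¹ :=
    ⟨L.θ (ψ ⟨fun i => μ ^ vv (gl x31) i, by
      rw [mem_WTor_one, mp_zpow, zp_pow', zp_iff hμ, ← Mz_red, red_smul]; exact eig31⟩),
      by rw [jG_θ, h2, inv_inv]⟩
  have h3 : ∀ k : ℕ, a ^ k = 1 ↔ 31 ∣ k := fun k => by
    rw [← map_eq_one_iff _ (jG_inj L), pow_diag ha, conj_eq_one_iff, map_eq_one_iff _ L.h.inj,
      show (1 : Fin 8 → L.Kˣ) = fun i => μ ^ (0 : Fin 8 → ℤ) i from funext (by simp), zp_iff hμ,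
      red_smul, ← ZMod.natCast_eq_zero_iff]
    exact ⟨fun h => by simpa [red, vv, gl, x31] using congrFun h 7, fun h => by
      funext i; simp [red, h]⟩
  have h4 := orderOf_eq_prime ((h3 31).2 dvd_rfl) fun h => absurd ((h3 1).1 (by simpa)) (by decide)
  obtain ⟨g, hg⟩ := MulAction.exists_smul_eq X
    (Sylow.ofCard (p := 31) (Subgroup.zpowers x) (by rw [hc, Nat.card_zpowers, orderOf_eq_prime hx h1]))
    (Sylow.ofCard (p := 31) (Subgroup.zpowers a) (by rw [hc, Nat.card_zpowers, h4]))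
  obtain ⟨k, hk⟩ : g * x * g⁻¹ ∈ Submonoid.powers a := by
    have := Subgroup.smul_mem_pointwise_smul _ (MulAut.conj g) _ (Subgroup.mem_zpowers x)
    exact mem_powers_iff_mem_zpowers.2 ((congrArg Sylow.toSubgroup hg).le this)
  have h5 : ¬ 31 ∣ k := fun h => h1 (by simpa [(h3 k).2 h] using hk.symm)
  have h6 := dm_eq hf hμ (pow_diag ha k)
  rw [show a ^ k = _ from hk, dm, map_mul, map_mul, fs_conj, ES_ind, ES, sum_eq_zero fun r _ => by
    have h7 := allLt_iff.1 chk31 _ r.2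
    rw [← xv_eq (by decide), ind, if_neg fun h => ?_]
    have h8 := xv_eq (m := 31) (by decide) (gl x31) r
    rcases (Nat.Prime.dvd_mul Fact.out).1 (Int.natCast_dvd_natCast.1 (by
      simpa using Int.dvd_of_emod_eq_zero h) : 31 ∣ k * xv 31 (gl x31) r) with h | h
    · exact h5 h
    · simp only [bne_iff_ne] at h7
      omega] at h6
  exact Nat.cast_injective (R := ℤ) (by simpa [ind, dm] using h6)

theorem dat (hX : Nat.card X = 31 * N) (hN : ¬ 31 ∣ N) : Dat ((RR f).comp (jG L)) where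
  h3 := CharP.cast_eq_zero L.K 3
  dim := by simp
  t8 x hx := by
    obtain ⟨μ, hμ⟩ := exists_μ L (m := 8) (by decide)
    obtain ⟨g, y, h2, w, hw, h3⟩ := exists_diag (by decide) hμ hx
    obtain ⟨v, hv, z, h4, h5⟩ := alc chk8 hw h3
    simp only [b8, ← ES_eq (show 0 < 8 by decide), ← ES_congr h4, ES_Mw hv] at h5
    rw [bt_diag hf hμ h2, bt_diag hf hμ (pow_diag h2 2), bt_diag hf hμ (pow_diag h2 4)]
    simpa only [ES_ind, decide_eq_true_eq, Nat.cast_ofNat] using h5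
  inj x hx := by
    have h1 : fs (RR f (jG L x)) = ⊤ := Submodule.eq_top_of_finrank_eq (le_antisymm
      (Submodule.finrank_le _) (by rw [bt_eq] at hx; simp at hx ⊢; omega))
    have h2 : f (jG L x) = 1 := Units.ext (toLin'.injective (LinearMap.ext fun v =>
      (mem_fs.1 (h1 ▸ Submodule.mem_top)).trans (by simp)))
    obtain ⟨g, rfl⟩ := L.surj x
    rw [L.ker, ← StRep.ker_ad hf L.h.top, ← jG_θ]
    exact h2
  t5 x hx h1 := by
    obtain ⟨μ, hμ⟩ := exists_μ L (m := 5) (by decide)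
    obtain ⟨g, y, h2, w, hw, h3⟩ := exists_diag (by decide) hμ hx
    obtain ⟨v, hv, z, h4, h5⟩ := alc chk5 hw h3
    have := (Bool.or_eq_true_iff.1 h5).resolve_left fun h => h1 (eq_one_of hμ h2 hv h4 h)
    rw [← ES_eq (by decide), ← ES_congr h4, ES_Mw hv, ← dm_eq hf hμ h2] at this
    simp at this
    omega
  t11 x hx h1 := by
    obtain ⟨μ, hμ⟩ := exists_μ L (m := 11) (by decide)
    obtain ⟨g, y, h2, w, hw, h3⟩ := exists_diag (by decide) hμ hx
    obtain ⟨v, hv, z, h4, h5⟩ := alc chk11 hw h3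
    obtain rfl : z = x11 := by
      simpa using (Bool.or_eq_true_iff.1 h5).resolve_left fun h => h1 (eq_one_of hμ h2 hv h4 h)
    have := dim11
    rw [← ES_eq (by decide), ← ES_congr h4, ES_Mw hv, ← dm_eq hf hμ h2] at this
    omega
  t31 _ := t31 hf hX hN
  t33 _ _ := t33 hf
  t41 x u hx e := by
    obtain ⟨μ, hμ⟩ := exists_μ L (m := 41) (by decide)
    obtain ⟨g, y, h2, w, hw, h3⟩ := exists_diag (by decide) hμ hx
    obtain ⟨v, hv, h4⟩ := L.h.exists_W_of_conj (g := g⁻¹ * jG L u * g) (c := fun i => μ ^ y i)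
      (c' := fun i => μ ^ ((36 : ℕ) • y) i) (by
        have := pow_diag h2 36
        rw [← e, map_mul, map_mul, map_inv, h2] at this
        refine (MulAut.conj g).injective ?_
        simpa [mul_assoc] using this)
    have h5 : orderOf (fun i => μ ^ y i) ∣ 41 := orderOf_dvd_of_pow_eq_one (by
      rw [zp_pow, ← hμ, pow_orderOf_eq_one]; funext i; simp)
    rcases (Nat.dvd_prime Fact.out).1 h5 with h | h
    · exact jG_inj L (by simp [h2, orderOf_eq_one_iff.1 h])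
    refine (no41 h (mul_mem hv hw) ?_).elim
    rw [mp_zpow, zp_iff hμ, ← Mz_red] at h4
    rw [mp_zpow, zp_pow', zp_iff hμ, ← Mz_red, Mz_mul hv hw, ← mulVec_mulVec, h3, mulVec_smul, h4]
    funext i
    simp only [red, Pi.smul_apply, smul_eq_mul]
    rw [zsmul_eq_mul, nsmul_eq_mul]
    push_cast
    rw [← mul_assoc]; rfl

omit hf in
theorem exists_dat : ∃ (K : Type) (_ : Field K) (V : Type) (_ : AddCommGroup V) (_ : Module K V)
    (_ : FiniteDimensional K V) (r : chevE8.group (ZMod 3) →* End K V), Dat r := by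
  obtain ⟨L⟩ : Nonempty (LS.{0} cE8 1 3 3 1 (chevE8.group (ZMod 3))) :=
    exists_LS_chev goodE8 (fun K _ => torE8 K) cenE8 (ZMod 3) 3
  obtain ⟨f, hf⟩ := L.h.faith
  exact ⟨_, _, _, _, _, inferInstance, _, dat hf (N := 3 ^ 120 * (3 ^ 2 - 1) * (3 ^ 8 - 1) *
    (3 ^ 12 - 1) * (3 ^ 14 - 1) * (3 ^ 18 - 1) * (3 ^ 20 - 1) * (3 ^ 24 - 1) * (3 ^ 30 - 1) / 31)
    ((cardE8 (ZMod 3) (Nat.card_zmod 3)).trans (by decide +kernel)) (by decide +kernel)⟩

end CF.E83
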