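import Cfsg.Agent.E83.E
import Cfsg.Agent.Spec.Fld

/-! `L₂(41)` and `L₂(32)` are not subgroups of `E₈(3)`. -/

set_option autoImplicit false

namespace CF.E83

open Module CF.Comp CF.Spec Matrix

variable {K V X : Type*} [Field K] [AddCommGroup V] [Module K V] [FiniteDimensional K V] [Group X]
  {r : X →* End K V}

namespace Dat

variable (h : Dat r)
include h

omit [FiniteDimensional K V] in
theorem h2 : (2 : K) ≠ 0 := fun e => one_ne_zero (α := K) (by linear_combination h.h3 - e)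

omit [FiniteDimensional K V] in
theorem one : bt r 1 = 248 := by
  rw [bt, map_one, bw_one h.h2, finrank_top, h.dim]; rfl

omit [FiniteDimensional K V] in
theorem t2 {x : X} (e : x * x = 1) (h1 : x ≠ 1) : bt r x = -8 ∨ bt r x = 24 := by
  have e2 : x ^ 2 = 1 := (sq x).trans e
  have h2 := h.t8 x (by rw [show 8 = 2 * 4 from rfl, pow_mul, e2, one_pow])
  have h3 := mt (h.inj x) h1
  rw [e2, h.one] at h2
  simp only [T8, List.mem_cons, Prod.mk.injEq, List.not_mem_nil, or_false] at h2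
  omega

end Dat

theorem exists_ck_psl {F : Type*} [Field F] {T : Tab} {el : ℕ → F} (hT : T.Ok el) {m : ℕ}
    {Ms : List (List (List ℕ))} {Ds : List (List (List (List ℕ)))}
    (e : letOK T 2 m Ms && allFrom (fun i => slAt T 2 Ms Ds (2 * i + 1)) 0 m) {H : Subgroup X}
    (φ : H ≃* ProjectiveSpecialLinearGroup (Fin 2) F) :
    ∃ f : ℕ → X, Ck f (relM T 2 m Ms) (neM T 2 m Ms) :=
  have e := Bool.and_eq_true_iff.1 e
  exists_ck (ε := .refl _) (ρ := Cfsg.slToMat 2 F) Subtype.val_injective hT (fun i hi =>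
    ⟨⟨_, (hT.det_eq _ (allFrom_zero.1 e.2 i hi)).trans hT.one⟩, rfl⟩) e.1 φ

/-- Matrices. -/
def m41 : List (List (List ℕ)) :=
  [[[1, 0], [0, 1]], [[1, 1], [0, 1]], [[1, 40], [0, 1]], [[6, 0], [0, 7]], [[7, 0], [0, 6]]]

omit [FiniteDimensional K V] in
theorem Dat.no41 (h : Dat r) {F : Type*} [Field F] [Fintype F] (hF : Fintype.card F = 41)
    {H : Subgroup X} (φ : H ≃* ProjectiveSpecialLinearGroup (Fin 2) F) : False := by
  have := charP_of_card_eq_prime (R := F) hF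
  obtain ⟨f, c⟩ := exists_ck_psl (tabP_ok F 41 (by decide)) (m := 2) (Ms := m41)
    (Ds := m41.map ([·])) (by decide +kernel) φ
  have h1 := c.rel (w := wpow [1] 41) (by decide +kernel)
  have h2 := c.eq (u := [3] ++ [1] ++ winv [3]) (v := wpow [1] 36) (by decide +kernel)
  rw [ev_append, ev_append, ev_winv, ev_wpow] at h2
  rw [ev_wpow] at h1
  exact c.ne (by decide +kernel) (h.t41 _ _ h1 h2)

/-- Addition table. -/
def fA : ℕ := nat_lit 0x443214c74254b635cf84653a56d7c675be77df08062290e64a16a6b1ee8c272ad2f6ce37aef3fe10c0131c8552d0973d8d94e11b5e95d6f19f7f9d18820398a45a9287b9ac9ca30bdab4deb38ffbbc214c700443635cf4254ba56d784653e77dfc675b290e6080626b1ee4a16aad2f68c272ef3fece37a31c8510c0173d8d52d09b5e9594e11f7f9dd6f19398a4188207b9ac5a928bdab49ca30ffbbcdeb384254b635cf00443214c7c675be77df84653a56d74a16a6b1ee08062290e6ce37aef3fe8c272ad2f652d0973d8d10c0131c85d6f19f7f9d94e11b5e955a9287b9ac18820398a4deb38ff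bbc9ca30bdab4635cf4254b214c700443e77dfc675ba56d7846536b1ee4a16a290e608062ef3fece37aad2f68c27273d8d52d0931c8510c01f7f9dd6f19b5e9594e117b9ac5a928398a418820ffbbcdeb38bdab49ca3084653a56d7c675be77df00443214c74254b635cf8c272ad2f6ce37aef3fe08062290e64a16a6b1ee94e11b5e95d6f19f7f9d10c0131c8552d0973d8d9ca30bdab4deb38ffbbc18820398a45a9287b9aca56d784653e77dfc675b214c700443635cf4254bad2f68c272ef3fece37a290e6080626b1ee4a16ab5e9594e11f7f9dd6f1931c8510c0173d8d52d09bdab49ca30ffbbcdeb38398a4188207b9ac5a928c675be77df84653a56d74254b635cf00443214c7ce37aef3fe8c272ad2f64a16a6b1ee08062290e6d6f19f7f9d94e11b5e9552d0973d8d10c0131c85deb38ffbbc9ca30bdab45a9287b9ac18820398a4e77dfc675ba56d784653635cf4254b214c700443ef3fece37aad2f68c2726b1ee4a16a290e608062f7f9dd6f19b5e9594e1173d8d52d0931c8510c01ffbbcdeb38bdab49ca307b9ac5a928398a418820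

/-- Multiplication table. -/
def fM : ℕ := nat_lit 0x935360fb458b95517726a2df03e383ba19326fe06ce8ad107d363e18bd16d945c64aab839373e7c04d2cb93db0d1cb80f3c355ea88b1d3c90db17fa0b29774d6886c60c939f32e704d18fbf087f0f7800ea491662a3f28f27eec6dbc5757a65c30344f60f11f5c8d128283bbb4dc162692fe8e65ba75c740d0db48a0df657623fa099a89dc05f62f24b75f202f60854be7d8dd6a3039e11319acde16aef6d70089b4d3c19bc3e64764b21d11fa8bc957436e2ee0760f1e2aa37e4d0eae82668b3f22e16ec92fa6c057cb0a076e99b896e057ea2471d9992457ed3ea0a870c7ec562413df2a6791beb470b11dddacb6801443225cf4775be46d78d272ae3fecb16a680e60ebf8efb7cccaf0ada748a9e86b96c488e0298640ca3cfb9a012d0535e99d2547256dbcc27eeb1e20358736713990ae7c23ad5edde0c494fbf4aa9600a6d4568a7c1b3b2d548bfc02e3271741ed98f9e0596f9b6144a690649ebb8798268e3f7867d971c078ab8f4c894165fcd06e0b3768754732f91be9a0871042a7b1fcceb51a5e70adaddc6f0b735a61803b23a71713af868e5d413361b79332a7c49ed960c4986afc2b122dc7977148fb723a1a9e4edf5140e55c7ed1e6f5d85fd9a4c4543cc162d4d01dc9201ae7b33ade4873161394bfcef9684aed5a5c4100bc33e5b0a253483b471f43cc1a4f5dacb7c4b8e04388285b9aeee3728d2f3856dfe675953d8530c0624c3c76570916eac3fab4f9911d0ddfa347a8a09df7f19d6fb4bda309cacf6354b425e62906208021c4142dcde7f5984ed58caf4efb784a9ec29860de7fd9c6f55a5ed184e5f7358b52507314831040ffbbcdeb38bdab49ca307b9ac5a928398a4188200000000000000000000000000000000000000000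

/-- Matrices. -/
def m32 : List (List (List ℕ)) :=
  [[[1, 0], [0, 1]], [[1, 1], [0, 1]], [[1, 1], [0, 1]], [[1, 18], [2, 0]], [[0, 18], [2, 1]], [[7,
  26], [7, 22]], [[22, 26], [7, 7]], [[21, 0], [0, 26]], [[26, 0], [0, 21]], [[1, 1], [0, 1]], [[1,
  1], [0, 1]], [[1, 28], [0, 1]], [[1, 28], [0, 1]], [[1, 3], [0, 1]], [[1, 3], [0, 1]], [[1, 23],
  [0, 1]], [[1, 23], [0, 1]], [[1, 5], [0, 1]], [[1, 5], [0, 1]]]

/-- Factorizations. -/
def d32 : List (List (List (List ℕ))) :=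
  [[], [[[1, 1], [0, 1]]], [], [[[1, 0], [2, 1]], [[1, 18], [0, 1]]], [], [[[1, 0], [1, 1]], [[7,
  26], [0, 12]]], [], [[[21, 0], [0, 26]]], [], [[[1, 1], [0, 1]]], [], [[[1, 28], [0, 1]]], [],
  [[[1, 3], [0, 1]]], [], [[[1, 23], [0, 1]]], [], [[[1, 5], [0, 1]]], []]

/-- Series. -/
def s32 : List (List ℕ × List (List ℕ)) :=
  [([], [[], [], [], []]), ([], [[], [], []]), ([], [[], []]), ([], [[]]), ([], [])]

/-- Classes. -/
def c32 : List (ℕ × List ℕ) :=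
  [(0, []), (1, [7, 7]), (1, [8, 8]), (1, [7, 7, 7, 7, 7, 7, 7, 7, 7, 7, 7, 7]), (1, [7]), (1, [8,
  8, 8, 8, 8, 8, 8, 8, 8, 8, 8]), (1, [7, 7, 7, 7, 7, 7, 7, 7, 7]), (1, [7, 7, 7, 7]), (1, [8]),
  (1, [7, 7, 7, 7, 7, 7, 7, 7, 7, 7]), (1, [8, 8, 8, 8, 8, 8, 8, 8, 8, 8, 8, 8, 8, 8]), (1, [7, 7,
  7, 7, 7, 7, 7, 7, 7, 7, 7]), (1, [7, 7, 7, 7, 7, 7]), (1, [8, 8, 8, 8, 8, 8, 8, 8, 8, 8, 8, 8, 8,
  8, 8]), (1, [8, 8, 8, 8, 8]), (1, [8, 8, 8]), (1, []), (1, [7, 7, 7, 7, 7, 7, 7]), (1, [7, 7, 7,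
  7, 7]), (1, [7, 7, 7, 7, 7, 7, 7, 7, 7, 7, 7, 7, 7]), (1, [8, 8, 8, 8, 8, 8, 8, 8, 8, 8, 8, 8]),
  (1, [8, 8, 8, 8, 8, 8, 8, 8]), (1, [7, 7, 7, 7, 7, 7, 7, 7, 7, 7, 7, 7, 7, 7, 7]), (1, [7, 7, 7,
  7, 7, 7, 7, 7, 7, 7, 7, 7, 7, 7]), (1, [8, 8, 8, 8, 8, 8, 8, 8, 8, 8, 8, 8, 8]), (1, [8, 8, 8,
  8]), (1, [8, 8, 8, 8, 8, 8, 8, 8, 8, 8]), (1, [7, 7, 7]), (1, [8, 8, 8, 8, 8, 8, 8, 8, 8]), (1,
  [8, 8, 8, 8, 8, 8]), (1, [8, 8, 8, 8, 8, 8, 8]), (1, [7, 7, 7, 7, 7, 7, 7, 7])]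

/-- The element of order `31`. -/
def h32 : List ℕ :=
  [3, 1, 4, 1, 4, 1, 4, 1, 4, 1, 4]

/-- The generators of the Sylow subgroup. -/
def u32 : List (ℕ × List ℕ) :=
  [(9, [1]), (11, [7, 1, 8]), (13, [8, 1, 7]), (15, [7, 7, 1, 8, 8]), (17, [8, 8, 1, 7, 7])]

theorem f32 : FldOK 32 5 fA fM := by decide +kernel

theorem Dat.no32 (h : Dat r) {F : Type*} [Field F] [Fintype F] (hF : Fintype.card F = 32)
    {H : Subgroup X} (φ : H ≃* ProjectiveSpecialLinearGroup (Fin 2) F) : False := by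
  obtain ⟨el, hT⟩ := exists_ok_tab f32 hF
  obtain ⟨f, c⟩ := exists_ck_psl hT (m := 9) (Ms := m32) (Ds := d32) (by decide +kernel) φ
  have e1 : ∀ w k, relM _ 2 9 m32 (wpow w k) → ev f w ^ k = 1 := fun w k e => ev_wpow f w k ▸ c.rel e
  obtain ⟨h1, h2⟩ := c.cnt (r := r) h.h2 (as := u32.map (·.1)) (sc := s32) (R := [[], [1]])
    (cs := c32) (ns := [1, 31]) (by decide +kernel)
  have h3 : ∀ S : Subgroup X, ev f [1] ∈ S → ev f [3] ∈ S → ev f [7] ∈ S := fun S hx hy => by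
    rw [c.eq (v := h32) (by decide +kernel)]
    refine mem_of_sub (bs := [1, 3, 4]) (by decide) ?_
    simpa [evL] using And.intro hx hy
  have h4 := h1.scott h.h2 (x := ev f [1]) (y := ev f [3]) fun S hx hy a ha => by
    rw [List.map_map] at ha
    obtain ⟨p, hp, rfl⟩ := List.mem_map.1 ha
    have := List.all_eq_true.1 (show u32.all fun p => req (relM (tabT 32 5 fA fM) 2 9 m32) [p.1] p.2 &&
      sub [1, 7, 8] p.2 by decide +kernel) p hp
    rw [Bool.and_eq_true] at this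
    have h5 := mem_of_sub this.2 (f := f) (S := S) (by
      simpa [evL] using And.intro hx (h3 S hx hy))
    rw [← c.eq this.1] at h5
    simpa using h5
  have h5 := scott_one (r := r) h3
  have h6 : ev f [1] * ev f [1] = 1 := (sq _).symm.trans (e1 _ 2 (by decide +kernel))
  have h7 := h.t2 h6 (c.ne (by decide +kernel))
  have h8 := dm_two (r := r) h.h2 h6
  have h9 := h.t33 (ev f [5]) (ev f [3]) (e1 _ _ (by decide +kernel)) (c.ne (by decide +kernel))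
    (e1 _ _ (by decide +kernel)) (by
      rw [← ev_append, ← ev_append]; exact c.eq (by decide +kernel))
  rw [← ev_append] at h4 h5
  rw [h.t11 _ (e1 ([1] ++ [3]) _ (by decide +kernel)) (c.ne (by decide +kernel))] at h4 h5
  rw [h.t31 _ (e1 [7] _ (by decide +kernel)) (c.ne (by decide +kernel))] at h5
  simp only [List.length_cons, List.length_nil, Finset.sum_range_succ, Finset.sum_range_zero,
    List.getD_cons_zero, List.getD_cons_succ, ev_nil, h.one, List.length_map, u32, h.dim] at h2 h4 h5 h8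
  omega

end CF.E83
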