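import Cfsg.Agent.E83.F

/-! `PSp₆(3)` is not a subgroup of `E₈(3)`. -/

set_option autoImplicit false

namespace CF.E83

open Module CF.Comp Matrix

variable {K V X : Type*} [Field K] [AddCommGroup V] [Module K V] [FiniteDimensional K V] [Group X]
  {r : X →* End K V}

/-- Matrices. -/
def m63 : List (List (List ℕ)) :=
  [[[1, 0, 0, 0, 0, 0], [0, 1, 0, 0, 0, 0], [0, 0, 1, 0, 0, 0], [0, 0, 0, 1, 0, 0], [0, 0, 0, 0, 1,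
  0], [0, 0, 0, 0, 0, 1]], [[1, 0, 0, 1, 0, 0], [0, 1, 0, 0, 0, 0], [0, 0, 1, 0, 0, 0], [0, 0, 0,
  1, 0, 0], [0, 0, 0, 0, 1, 0], [0, 0, 0, 0, 0, 1]], [[1, 0, 0, 2, 0, 0], [0, 1, 0, 0, 0, 0], [0,
  0, 1, 0, 0, 0], [0, 0, 0, 1, 0, 0], [0, 0, 0, 0, 1, 0], [0, 0, 0, 0, 0, 1]], [[0, 0, 1, 0, 0, 0],
  [1, 0, 0, 0, 0, 0], [0, 1, 0, 0, 0, 0], [0, 0, 0, 0, 0, 1], [0, 0, 0, 1, 0, 0], [0, 0, 0, 0, 1,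
  0]], [[0, 1, 0, 0, 0, 0], [0, 0, 1, 0, 0, 0], [1, 0, 0, 0, 0, 0], [0, 0, 0, 0, 1, 0], [0, 0, 0,
  0, 0, 1], [0, 0, 0, 1, 0, 0]], [[0, 1, 0, 0, 0, 0], [1, 0, 0, 0, 0, 0], [0, 0, 1, 0, 0, 0], [0,
  0, 0, 0, 1, 0], [0, 0, 0, 1, 0, 0], [0, 0, 0, 0, 0, 1]], [[0, 1, 0, 0, 0, 0], [1, 0, 0, 0, 0, 0],
  [0, 0, 1, 0, 0, 0], [0, 0, 0, 0, 1, 0], [0, 0, 0, 1, 0, 0], [0, 0, 0, 0, 0, 1]], [[0, 0, 0, 2, 0,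
  0], [0, 1, 0, 0, 0, 0], [0, 0, 1, 0, 0, 0], [1, 0, 0, 0, 0, 0], [0, 0, 0, 0, 1, 0], [0, 0, 0, 0,
  0, 1]], [[0, 0, 0, 1, 0, 0], [0, 1, 0, 0, 0, 0], [0, 0, 1, 0, 0, 0], [2, 0, 0, 0, 0, 0], [0, 0,
  0, 0, 1, 0], [0, 0, 0, 0, 0, 1]], [[0, 2, 0, 2, 1, 0], [0, 1, 0, 2, 2, 0], [0, 0, 1, 0, 0, 0],
  [2, 2, 0, 0, 2, 0], [2, 1, 0, 0, 1, 0], [0, 0, 0, 0, 0, 1]], [[0, 0, 0, 1, 1, 0], [2, 1, 0, 2, 1,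
  0], [0, 0, 1, 0, 0, 0], [1, 1, 0, 0, 0, 0], [1, 2, 0, 2, 1, 0], [0, 0, 0, 0, 0, 1]], [[0, 0, 0,
  0, 1, 0], [1, 0, 0, 0, 0, 0], [0, 0, 1, 0, 0, 1], [0, 2, 0, 0, 0, 0], [0, 0, 0, 1, 0, 0], [0, 0,
  1, 0, 0, 2]], [[0, 1, 0, 0, 0, 0], [0, 0, 0, 2, 0, 0], [0, 0, 2, 0, 0, 2], [0, 0, 0, 0, 1, 0],
  [1, 0, 0, 0, 0, 0], [0, 0, 2, 0, 0, 1]], [[0, 0, 0, 1, 0, 0], [0, 1, 0, 0, 1, 0], [0, 0, 1, 0, 0,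
  2], [2, 0, 0, 0, 0, 0], [0, 1, 0, 0, 2, 0], [0, 0, 2, 0, 0, 2]], [[0, 0, 0, 2, 0, 0], [0, 2, 0,
  0, 2, 0], [0, 0, 2, 0, 0, 1], [1, 0, 0, 0, 0, 0], [0, 2, 0, 0, 1, 0], [0, 0, 1, 0, 0, 1]], [[0,
  0, 0, 0, 1, 0], [1, 0, 0, 1, 0, 0], [0, 0, 1, 0, 0, 2], [0, 2, 0, 0, 0, 0], [1, 0, 0, 2, 0, 0],
  [0, 0, 2, 0, 0, 2]], [[0, 2, 0, 0, 2, 0], [0, 0, 0, 2, 0, 0], [0, 0, 2, 0, 0, 1], [0, 2, 0, 0, 1,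
  0], [1, 0, 0, 0, 0, 0], [0, 0, 1, 0, 0, 1]], [[0, 0, 0, 0, 1, 0], [0, 0, 0, 1, 0, 0], [0, 0, 1,
  0, 0, 0], [0, 2, 0, 0, 0, 0], [2, 0, 0, 0, 0, 0], [0, 0, 0, 0, 0, 1]], [[0, 0, 0, 0, 2, 0], [0,
  0, 0, 2, 0, 0], [0, 0, 1, 0, 0, 0], [0, 1, 0, 0, 0, 0], [1, 0, 0, 0, 0, 0], [0, 0, 0, 0, 0, 1]],
  [[1, 0, 0, 1, 0, 0], [0, 1, 0, 0, 1, 0], [0, 0, 1, 0, 0, 0], [1, 0, 0, 2, 0, 0], [0, 1, 0, 0, 2,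
  0], [0, 0, 0, 0, 0, 1]], [[2, 0, 0, 2, 0, 0], [0, 2, 0, 0, 2, 0], [0, 0, 1, 0, 0, 0], [2, 0, 0,
  1, 0, 0], [0, 2, 0, 0, 1, 0], [0, 0, 0, 0, 0, 1]], [[0, 0, 0, 1, 0, 0], [0, 1, 0, 0, 0, 0], [0,
  0, 1, 0, 0, 1], [2, 0, 0, 0, 0, 0], [0, 0, 0, 0, 1, 0], [0, 0, 1, 0, 0, 2]], [[0, 0, 0, 2, 0, 0],
  [0, 1, 0, 0, 0, 0], [0, 0, 2, 0, 0, 2], [1, 0, 0, 0, 0, 0], [0, 0, 0, 0, 1, 0], [0, 0, 2, 0, 0,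
  1]], [[0, 0, 0, 1, 0, 0], [0, 0, 0, 0, 1, 0], [0, 0, 1, 0, 0, 0], [2, 0, 0, 0, 0, 0], [0, 2, 0,
  0, 0, 0], [0, 0, 0, 0, 0, 1]], [[0, 0, 0, 2, 0, 0], [0, 0, 0, 0, 2, 0], [0, 0, 1, 0, 0, 0], [1,
  0, 0, 0, 0, 0], [0, 1, 0, 0, 0, 0], [0, 0, 0, 0, 0, 1]], [[1, 0, 0, 0, 0, 0], [0, 2, 0, 0, 0, 0],
  [0, 0, 1, 0, 0, 0], [0, 0, 0, 1, 0, 0], [0, 0, 0, 0, 2, 0], [0, 0, 0, 0, 0, 1]], [[1, 0, 0, 0, 0,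
  0], [0, 2, 0, 0, 0, 0], [0, 0, 1, 0, 0, 0], [0, 0, 0, 1, 0, 0], [0, 0, 0, 0, 2, 0], [0, 0, 0, 0,
  0, 1]], [[1, 0, 0, 0, 0, 0], [0, 1, 0, 0, 0, 0], [0, 0, 2, 0, 0, 0], [0, 0, 0, 1, 0, 0], [0, 0,
  0, 0, 1, 0], [0, 0, 0, 0, 0, 2]], [[1, 0, 0, 0, 0, 0], [0, 1, 0, 0, 0, 0], [0, 0, 2, 0, 0, 0],
  [0, 0, 0, 1, 0, 0], [0, 0, 0, 0, 1, 0], [0, 0, 0, 0, 0, 2]]]

/-- Series. -/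
def s63 : List (List ℕ × List (List ℕ)) :=
  [([27, 25, 23, 19], [[23, 19], [25], [27, 25, 23], [27, 25], [27], []]), ([27], [[27], [25, 23],
  [], [27], []]), ([27], [[27, 25], [27], [], []]), ([25], [[], [], []]), ([27], [[], []]), ([],
  [[]]), ([], [])]

/-- Classes. -/
def c63 : List (ℕ × List ℕ) :=
  [(0, []), (1, []), (1, [3]), (1, [4]), (3, [9, 5, 10]), (3, []), (3, [9]), (3, [9, 5]), (3, [9,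
  5, 2, 3]), (3, [9, 5, 2, 7, 3]), (3, [2, 7, 3]), (3, [2, 3]), (3, [2, 7, 3, 5]), (3, [2, 3, 5]),
  (3, [9, 3, 2, 7, 3]), (3, [9, 3, 2, 3]), (3, [2, 5, 2]), (3, [10, 10, 7]), (3, [10, 10]), (3,
  [10, 10, 5]), (3, [9, 9, 8, 9]), (3, [1, 5, 1]), (3, [10, 8, 10]), (3, [10, 7, 10]), (2, [2, 7,
  4]), (2, [2, 3, 5]), (2, [2, 4]), (2, [2, 3, 7, 3]), (2, [1, 4, 1]), (2, [2, 3, 7]), (2, [2, 3]),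
  (2, [2, 7, 3]), (3, [10]), (3, [10, 7, 7]), (1, [3, 10, 7]), (1, [3, 9, 9]), (1, [4, 10]), (1,
  [3, 10]), (3, [10, 7]), (3, [10, 8]), (4, [1, 7, 2, 5, 1, 8, 2]), (4, [1, 7, 2, 5, 1, 7, 2]), (4,
  [7]), (4, [5]), (4, [5, 8]), (4, []), (4, [1, 7, 2, 5, 2, 7, 1]), (4, [1, 7, 2, 5, 2, 8, 1]), (3,
  [9, 9]), (3, [9, 5, 9]), (1, [3, 9, 8]), (1, [3, 9, 7]), (3, [9, 9, 7]), (3, [9, 9, 8]), (1, [3,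
  9]), (1, [4, 9]), (4, [2, 7, 1]), (4, [2, 8, 1]), (4, [1, 7, 2, 5]), (4, [1, 8, 2, 5]), (4, [1,
  7, 2]), (4, [1, 8, 2]), (4, [2, 8, 1, 5]), (4, [2, 7, 1, 5]), (4, [1, 4, 2, 3, 7, 5, 1]), (4, [1,
  4, 2, 3, 8, 5, 1]), (4, [1, 3, 1, 5, 2, 3, 8]), (4, [1, 3, 1, 5, 2, 3, 7]), (4, [1, 4, 2, 3, 7,
  5, 1, 7]), (4, [1, 4, 2, 3, 7, 5, 1, 8]), (4, [1, 3, 1, 5, 2, 3]), (4, [1, 3, 1, 5, 2, 7, 3]),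
  (4, [2, 3, 2, 5, 1, 3]), (4, [2, 3, 2, 5, 7, 1, 3]), (4, [2, 4, 1, 3, 7, 5, 2, 7]), (4, [2, 4, 1,
  3, 7, 5, 2, 8]), (4, [2, 3, 2, 5, 1, 3, 7]), (4, [2, 3, 2, 5, 1, 3, 8]), (4, [2, 4, 1, 3, 8, 5,
  2]), (4, [2, 4, 1, 3, 7, 5, 2]), (4, [1, 3, 1, 3, 2, 3]), (4, [1, 3, 1, 3, 2, 7, 3]), (4, [1, 3,
  1, 7, 3, 2, 3, 8]), (4, [1, 3, 1, 7, 3, 2, 3, 7]), (4, [1, 3, 1, 7, 3, 2, 3]), (4, [1, 3, 1, 8,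
  3, 2, 3]), (4, [1, 3, 1, 3, 2, 3, 7]), (4, [1, 3, 1, 3, 2, 3, 8]), (4, [2, 3, 2, 3, 1, 3]), (4,
  [2, 3, 2, 3, 7, 1, 3]), (4, [2, 3, 2, 7, 3, 1, 3, 8]), (4, [2, 3, 2, 7, 3, 1, 3, 7]), (4, [2, 3,
  2, 7, 3, 1, 3]), (4, [2, 3, 2, 8, 3, 1, 3]), (4, [2, 3, 2, 3, 1, 3, 7]), (4, [2, 3, 2, 3, 1, 3,
  8]), (3, [1, 3, 1]), (3, [1, 7, 3, 1]), (3, [1, 7, 3, 1, 7]), (3, [1, 3, 1, 7]), (2, [2, 3, 1,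
  4]), (2, [5]), (2, [5, 7]), (2, [1, 7, 2, 5]), (3, [3, 2]), (3, [9, 3, 2]), (3, [9, 3, 2, 7]),
  (3, [3, 2, 7]), (2, [3, 1, 3]), (2, [2, 9, 9, 4]), (2, [4, 2, 4, 2]), (2, [3, 1, 5]), (2, [3, 7,
  4]), (2, [1, 7, 2]), (2, []), (2, [2, 5, 1]), (3, [10, 8, 10, 4]), (3, [9, 9, 8, 9, 4]), (3, [1,
  3, 1, 3]), (3, [10, 7, 10, 4]), (3, [2, 4]), (3, [9, 3, 2, 5]), (3, [2, 7, 4]), (3, [9, 3, 2, 7,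
  5]), (2, [5, 1, 3]), (2, [3, 7, 1]), (2, [3, 1]), (2, [3, 2, 5, 2])]

theorem Dat.no63 (h : Dat r) {H : Subgroup X} (φ : H ≃* Cfsg.PSp 3 (ZMod 3)) : False := by
  have hT := tabP_ok (ZMod 3) 3 (by decide)
  obtain ⟨f, c⟩ := exists_ck (ε := finSumFinEquiv (m := 3) (n := 3)) (m := 14) (Ms := m63)
    (ρ := (symplecticGroup (Fin 3) (ZMod 3)).subtype) Subtype.val_injective hT (fun i hi =>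
      hT.exists_sp (c := 2) (by decide) (allFrom_zero.1 (show allFrom
        (fun i => spAt (tabP 3) 3 2 m63 (2 * i + 1)) 0 14 by decide +kernel) i hi))
    (by decide +kernel) φ
  obtain ⟨-, h2⟩ := c.cnt (r := r) h.h2 (as := [15, 17, 19, 21, 23, 25, 27]) (sc := s63)
    (R := [[], wpow [11] 4, [13], wpow [11] 2, [11]]) (cs := c63) (ns := [1, 11, 24, 44, 48])
    (by decide +kernel)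
  have h3 := h.t8 (ev f [11]) (ev_wpow f _ _ ▸ c.rel (by decide +kernel))
  have h4 := mt (h.inj _) (c.ne (w := wpow [11] 4) (by decide +kernel))
  have h5 := h.t2 (x := ev f [13]) (ev_append f _ _ ▸ c.rel (by decide +kernel))
    (c.ne (by decide +kernel))
  simp only [List.length_cons, List.length_nil, Finset.sum_range_succ, Finset.sum_range_zero,
    List.getD_cons_zero, List.getD_cons_succ, ev_nil, h.one, ev_wpow, T8, List.mem_cons,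
    Prod.mk.injEq, List.not_mem_nil, or_false] at h2 h3 h4
  omega

end CF.E83
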